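import Groth.Agent.H22.QProj.Sys
import Groth.Agent.Lib.PProj.Coord

/-
Adapted from `Groth/Agent/Lib/PProj/ExtSys.lean`: adding vectors to a coordinate system; only the old good
coordinates stay good, so nothing is to be proved about the loci of the new ones.
-/

set_option autoImplicit false
set_option maxHeartbeats 1000000

noncomputable section

universe u

open CategoryTheory AlgebraicGeometry TopologicalSpace Opposite

namespace Groth.Agent.H22.QProj

open Groth.Agent.Lib Groth.Agent.Lib.PProj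

variable {X S : Scheme.{u}} {f : X ⟶ S} {I : Type u} {P : I → X.Opens} {U : S.Opens}

/-- The locus of a vector. -/
def loc (v : Vec f P U) : X.Opens := ⨆ a, X.basicOpen (v a)

theorem loc_le (v : Vec f P U) : loc v ≤ f ⁻¹ᵁ U :=
  iSup_le fun a => (X.basicOpen_le _).trans inf_le_right

theorem loc_inf (T : Sys f P U) {v : Vec f P U} (hv : ∀ j, Prop2 v (T.c j)) (a : I) :
    loc v ⊓ P a = X.basicOpen (v a) := by
  refine le_antisymm ?_ (le_inf (le_iSup (fun a => X.basicOpen (v a)) a) ((X.basicOpen_le _).trans inf_le_left))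
  rintro x ⟨hx, hxa⟩
  obtain ⟨b, hb⟩ := Opens.mem_iSup.1 hx
  have hxb : x ∈ piece f P b U := X.basicOpen_le _ hb
  obtain ⟨j, hj⟩ := Opens.mem_iSup.1 (T.cover hxb.2)
  let W := piece f P a U ⊓ piece f P b U
  have hW : x ∈ W := ⟨⟨hxa, hxb.2⟩, hxb⟩
  have h := congrArg (fun s => X.basicOpen s) (hv j a b W inf_le_left inf_le_right)
  simp only [Scheme.basicOpen_mul, basicOpen_rX, ← T.L_inf] at h
  exact (h.ge ⟨⟨hW, hj, hxa⟩, hW, hb⟩).1.2

/-- Enlarging a system by proportional vectors. -/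
theorem Sys.exists_extend (T : Sys f P U) (hP : ∀ x, ∃ a, x ∈ P a) {m : ℕ} (w : Fin m → Vec f P U)
    (ι : Fin T.n → Fin m) (hι : ∀ j, w (ι j) = T.c j) (h : ∀ i j, Prop2 (w i) (w j)) :
    ∃ T' : Sys f P U, ∃ e : T'.n = m, ∀ j, T'.c j = w (Fin.cast e j) := by
  have hv : ∀ i j, Prop2 (w i) (T.c j) := fun i j => by rw [← hι]; exact h i (ι j)
  have hdiv := fun i k => PProj.exists_div hP (h i k) (loc_le (w i)) fun a => (loc_inf T (hv i) a).le
  choose r hr using hdiv
  have hL : ∀ j, loc (w (ι j)) = T.L j := fun j => by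
    ext x
    obtain ⟨a, ha⟩ := hP x
    have h1 := SetLike.ext_iff.1 ((loc_inf T (hv (ι j)) a).trans
      ((congrArg (fun v : Vec f P U => X.basicOpen (v a)) (hι j)).trans (T.L_inf j a).symm)) x
    simp only [Opens.mem_inf, ha, and_true] at h1
    exact h1
  let good : Fin m → Prop := fun i => ∃ j, T.good j ∧ ι j = i
  have hr' : ∀ j k, rX (hL j).ge (r (ι j) (ι k)) = T.u j k := fun j k => by
    refine eq_of_cover (B := fun a => T.L j ⊓ P a) (fun a => inf_le_left) (fun x hx => ?_) fun a => ?_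
    · obtain ⟨a, ha⟩ := hP x
      exact Opens.mem_iSup.2 ⟨a, hx, ha⟩
    refine (T.isUnit_c j a).mul_left_injective ?_
    have e := hr (ι j) (ι k) a (T.L j ⊓ P a) (inf_le_left.trans (hL j).ge) (T.le_piece j a)
    have ek := congrArg (fun v : Vec f P U => rX (T.le_piece j a) (v a)) (hι k)
    have ej := congrArg (fun v : Vec f P U => rX (T.le_piece j a) (v a)) (hι j)
    have e' := (T.rel' j k a).symm.trans ((ek.symm.trans e).trans (congrArg (_ * ·) ej))
    refine Eq.trans ?_ e'.symm
    exact congrArg (· * _) (rX_rX _ _ _)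
  refine ⟨{
    n := m
    c := w
    L := fun i => loc (w i)
    L_le := fun i => loc_le _
    good := good
    affine := ?_
    cover_good := fun x hx => ?_
    L_inf := fun i a => loc_inf T (hv i) a
    u := r
    rel := fun i k a => hr i k a _ inf_le_left _
    gen := ?_ }, rfl, fun _ => rfl⟩
  · rintro _ ⟨j, hj, rfl⟩
    rw [hL j]
    exact T.affine j hj
  · obtain ⟨j, hj, hxj⟩ := T.cover_good x hx
    exact ⟨ι j, ⟨j, hj, rfl⟩, (hL j).ge hxj⟩
  · rintro _ ⟨j, hj, rfl⟩
    refine eq_top_iff.2 fun z _ => ?_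
    set R0 := Subring.closure (Set.range (f.appLE U (loc (w (ι j))) (loc_le _)) ∪ Set.range (r (ι j))) with hR0
    have hz : rX (hL j).ge z ∈ R0.map (rX (hL j).ge) := by
      refine Subring.closure_le.2 ?_ ((T.gen j hj).ge (Subring.mem_top (rX (hL j).ge z)))
      rintro _ (⟨s, rfl⟩ | ⟨k, rfl⟩)
      · refine ⟨f.appLE U (loc (w (ι j))) (loc_le _) s, Subring.subset_closure (Or.inl ⟨s, rfl⟩), ?_⟩
        simp only [rX]
        rw [← CommRingCat.comp_apply, Scheme.Hom.appLE_map]
      · exact ⟨r (ι j) (ι k), Subring.subset_closure (Or.inr ⟨ι k, rfl⟩), hr' j k⟩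
    obtain ⟨z', hz', e⟩ := hz
    have hinj : Function.Injective (rX (hL j).ge) := fun a b hab => by
      have h2 := congrArg (rX (hL j).le) hab
      rwa [rX_rX, rX_rX, rX_self, rX_self] at h2
    exact hinj e ▸ hz'

end Groth.Agent.H22.QProj
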