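import Groth.Agent.Lib.ProjMor.VeryAmple
import Groth.Agent.Lib.Ample.Pullback

/-
Adapted from `Groth/Agent/Lib/ProjMor/VeryAmple.lean`: the sections of a large power of an ample module that give
the immersion are returned themselves.
-/

set_option autoImplicit false
set_option maxHeartbeats 1000000

noncomputable section

universe u

open CategoryTheory CategoryTheory.Limits AlgebraicGeometry TopologicalSpace Opposite

namespace Groth.Agent.H22.QProj

open Groth.Agent.Lib Groth.Agent.Lib.ProjMor Groth.Agent.Lib.ProjMor.VeryAmple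
open TensorMod TensorMod.Basic TensorMod.Free TensorMod.Dual TensorMod.Gen TensorMod.HomGlue TensorMod.Pullback
  Ample.GenLocus Ample.Pow Ample.Extend Ample.Basis Sec

variable {X Y : Scheme.{u}}

/-- Over an affine base, large powers of an ample module have finitely many sections among which some have affine
loci covering the scheme, on which the ratios of the sections generate the functions. -/
theorem eventually_good_sections [IsAffine Y] (q : X ⟶ Y) [LocallyOfFiniteType q] {L : X.Modules}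
    (hL : CohB1.IsAmple L) :
    ∃ n₀ : ℕ, ∀ n, n₀ ≤ n → ∃ (N : ℕ) (t : Fin N → Γ(CohB1.tensorPow L n, ⊤)) (good : Fin N → Prop),
      (∀ x, ∃ i, good i ∧ x ∈ locus (t i)) ∧ (∀ i, good i → IsAffineOpen (locus (t i))) ∧
      ∀ i, good i → ∀ (O : X.Opens) (hO : O = locus (t i)) (w : Γ(X, O)),
        w ∈ Subring.closure (Set.range (q.appLE ⊤ O le_top).hom ∪
          {a | ∃ k, gl (t k) O = a • gl (t i) O}) := by
  classical
  haveI := Ample.Pullback.quasiSeparatedSpace_of_isAmple hL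
  let L' : X.Modules := Coh.structureModule X
  have hL' : PicF.IsInvertible L' :=
    TensorMod.Invertible.isInvertible_tensorPow (Ample.Pow.isAmple_iff.1 hL).1 0
  obtain ⟨hi, hc, -⟩ := Ample.Pow.isAmple_iff.1 hL
  haveI := hc
  obtain ⟨m, hm, N, s, hs, hcov, hfr⟩ := exists_adapted_cover q hL hL'
  choose gens hgens using fun i => exists_gens q (hs i) (isAffineOpen_top Y) (le_top : _ ≤ q ⁻¹ᵁ ⊤)
  let P := CohB1.tensorPow L m
  have hP : PicF.IsInvertible P := Invertible.isInvertible_tensorPow hi m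
  let F : ℕ → X.Modules := fun e => CohB1.tensorMod (CohB1.tensorPow L e) L'
  have hF : ∀ e, PicF.IsInvertible (F e) := fun e =>
    Invertible.isInvertible_tensorMod (Invertible.isInvertible_tensorPow hi e) hL'
  have hframe : ∀ e i, ∃ f : Γ(F e, CohB1.genLocus _ (s i)), IsGen (F e) _ f := fun e i => by
    obtain ⟨a, ha⟩ := (hfr i).1
    obtain ⟨b, hb⟩ := (hfr i).2.1
    exact ⟨_, isGen_tmul (isGen_powSec ha e) hb⟩
  choose f hf using hframe
  let Idx : Type u := Σ i : ULift.{u} (Fin N), Option (gens i.down)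
  let z : ∀ k : Idx, Γ(X, CohB1.genLocus _ (s k.1.down)) := fun k => k.2.elim 1 (fun b => b.1)
  have hext : ∀ᶠ c in Filter.atTop, ∀ (e : Fin m) (k : Idx),
      ∃ t' : Γ(CohB1.tensorMod (F e) (CohB1.tensorPow P c), ⊤),
        gl t' (CohB1.genLocus _ (s k.1.down)) = tw (s k.1.down) c (z k • f e k.1.down) := by
    refine Filter.eventually_all.2 fun e => Filter.eventually_all.2 fun k => ?_
    haveI := QCohInv.isQCoh_of_isInvertible (hF e)
    exact eventually_extension hP (s k.1.down) _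
  obtain ⟨c₀, hc₀⟩ := Filter.eventually_atTop.1 hext
  refine ⟨m * (c₀ + 1), fun n hn => ?_⟩
  obtain ⟨c, e, hce, rfl⟩ : ∃ (c : ℕ) (e : Fin m), c₀ ≤ c ∧ n = e + m * (c + 1) := by
    have h1 : c₀ + 1 ≤ n / m := (Nat.le_div_iff_mul_le hm).2 (by rw [Nat.mul_comm]; exact hn)
    obtain ⟨c, hc⟩ : ∃ c, n / m = c + 1 := ⟨n / m - 1, by omega⟩
    exact ⟨c, ⟨n % m, Nat.mod_lt n hm⟩, by omega, by rw [← hc]; exact (Nat.mod_add_div n m).symm⟩
  choose t' ht' using hc₀ c hce e
  let M := CohB1.tensorMod (CohB1.tensorMod (F e) (CohB1.tensorPow P c)) P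
  let φ : M ≅ CohB1.tensorPow L (e + m * (c + 1)) :=
    Basic.assoc _ _ _ ≪≫
      tensorIso (Basic.comm _ _) (show CohB1.tensorMod (CohB1.tensorPow P c) P ≅ _ from powMul L m (c + 1)) ≪≫
      Basic.assoc _ _ _ ≪≫ Basic.comm _ _ ≪≫
      tensorIso ((powAdd L e (m * (c + 1))).symm) (Iso.refl _) ≪≫ TensorMod.Basic.rightUnit _
  let σ : ∀ i, Γ(P, ⊤) := fun i => sv (s i) ⊤
  let T : Idx → ProjUP.Γm M := fun k => tm _ P (t' k) (σ k.1.down)
  let U : Fin N → X.Opens := fun i => CohB1.genLocus _ (s i)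
  let G : ∀ i, Γ(M, U i) := fun i =>
    tm _ P (tm (F e) _ (f e i) (powSec (sv (s i) (U i)) c)) (sv (s i) (U i))
  have hG : ∀ i, IsGen M (U i) (G i) := fun i =>
    isGen_tmul (isGen_tmul (hf e i) (isGen_powSec (isGen_genLocus (s i)) c)) (isGen_genLocus (s i))
  have hT : ∀ k : Idx, gl (T k) (U k.1.down) = z k • G k.1.down := fun k => by
    rw [gl_tmul, ht', twist_eq (a := 1) (e := sv (s k.1.down) (U k.1.down)) (one_smul _ _).symm, one_pow,
      one_smul]
    simp only [σ, G, gl, rs_sv, ← pairM_id, pairM_smul_left]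
    rfl
  have hloc1 : ∀ i : Fin N, locus (T ⟨⟨i⟩, none⟩) = U i := fun i => by
    refine le_antisymm ?_ (le_locus ?_)
    · rw [locus_tmul (Invertible.isInvertible_tensorMod (hF e) (Invertible.isInvertible_tensorPow hP c)) hP]
      refine inf_le_right.trans (le_of_eq ?_)
      exact congrArg (CohB1.genLocus P) (Modules.Free.unitHom_ext (Modules.Free.unitHom_app_one P (σ i)))
    · rw [hT]
      simpa [z] using hG i
  let E : Fin (Fintype.card Idx) ≃ Idx := (Fintype.equivFin Idx).symm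
  let t : Fin (Fintype.card Idx) → Γ(CohB1.tensorPow L (e + m * (c + 1)), ⊤) := fun j => φ.hom.app ⊤ (T (E j))
  have hlt : ∀ i : Fin N, locus (t (E.symm (⟨⟨i⟩, none⟩ : Idx))) = U i := fun i => by
    simp only [t, Equiv.apply_symm_apply]
    rw [locus_iso]
    exact hloc1 i
  refine ⟨_, t, fun j => ∃ i : Fin N, j = E.symm (⟨⟨i⟩, none⟩ : Idx), fun x => ?_, ?_, ?_⟩
  · obtain ⟨i, hx⟩ := hcov x
    exact ⟨_, ⟨i, rfl⟩, (hlt i).ge hx⟩
  · rintro _ ⟨i, rfl⟩
    rw [hlt i]
    exact hs i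
  · rintro _ ⟨i, rfl⟩ O hO
    obtain rfl : O = U i := hO.trans (hlt i)
    intro w
    have hsub : (gens i : Set Γ(X, U i)) ⊆
        {a | ∃ k, gl (t k) (U i) = a • gl (t (E.symm (⟨⟨i⟩, none⟩ : Idx))) (U i)} := fun b hb => by
      refine ⟨E.symm (⟨⟨i⟩, some ⟨b, hb⟩⟩ : Idx), ?_⟩
      have e1 := hT ⟨⟨i⟩, some ⟨b, hb⟩⟩
      have e0 := hT ⟨⟨i⟩, none⟩
      simp only [z, Option.elim_none, Option.elim_some, one_smul] at e0 e1
      simp only [t, Equiv.apply_symm_apply, ← app_gl]
      rw [e0, e1, Scheme.Modules.Hom.app_smul]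
    exact Subring.closure_mono (Set.union_subset_union_right _ hsub) (hgens i w)

end Groth.Agent.H22.QProj
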