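import Groth.Agent.H22.QProj.Main
import Groth.Agent.H22.QProj.ExtSys
import Groth.Agent.H22.QProj.GoodSec
import Groth.Agent.Lib.PProj.AffineSys
import Groth.Agent.Lib.PProj.Span
import Groth.Agent.Lib.Ample.RelAmple

/-!
# Quasi-projective morphisms over quasi-compact quasi-separated bases have coordinate data

Consequently they are schematically dense open immersions followed by projective morphisms.
-/

set_option autoImplicit false
set_option maxHeartbeats 1000000

noncomputable section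

universe u

open CategoryTheory CategoryTheory.Limits AlgebraicGeometry TopologicalSpace Opposite

namespace Groth.Agent.H22.QProj

open Groth.Agent.Lib Groth.Agent.Lib.PProj
open TensorMod TensorMod.Dual TensorMod.Gen Ample.GenLocus ProjMor.Sec ProjMor.Frame

variable {X S : Scheme.{u}} (f : X ⟶ S)

/-- Good sections over an affine open give a coordinate system. -/
theorem exists_sys (M : X.Modules) {I : Type u} {P : I → X.Opens} {e : ∀ a, Γ(M, P a)}
    (he : ∀ a, IsGen M (P a) (e a)) {U : S.Opens}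
    {N : ℕ} (t : Fin N → Γ(M.restrict (f ⁻¹ᵁ U).ι, ⊤)) (good : Fin N → Prop)
    (hcov : ∀ x, ∃ i, good i ∧ x ∈ locus (t i)) (haff : ∀ i, good i → IsAffineOpen (locus (t i)))
    (hgen : ∀ i, good i → ∀ (O : ((f ⁻¹ᵁ U : X.Opens) : Scheme.{u}).Opens) (hO : O = locus (t i))
      (w : Γ(((f ⁻¹ᵁ U : X.Opens) : Scheme.{u}), O)),
        w ∈ Subring.closure (Set.range ((f ∣_ U).appLE ⊤ O le_top).hom ∪
          {a | ∃ k, gl (t k) O = a • gl (t i) O})) :
    ∃ (T : Sys f P U) (m : Fin T.n → Γ(M, f ⁻¹ᵁ U)), ∀ j, T.c j = cv f M he (m j) := by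
  let O := f ⁻¹ᵁ U
  let q : (O : Scheme.{u}) ⟶ U := f ∣_ U
  let W : Fin N → (O : Scheme.{u}).Opens := fun k => locus (t k)
  have hO : O ≤ O.ι ''ᵁ ⊤ := by simp
  let m : Fin N → Γ(M, f ⁻¹ᵁ U) := fun k => rs M hO ((M.restrictAppIso O.ι ⊤).hom (t k))
  let L : Fin N → X.Opens := fun k => O.ι ''ᵁ W k
  have hLO : ∀ k, L k ≤ f ⁻¹ᵁ U := fun k => (O.ι.image_le_opensRange _).trans (Scheme.Opens.opensRange_ι O).le
  have hgl : ∀ (V : (O : Scheme.{u}).Opens) (hV : O.ι ''ᵁ V ≤ f ⁻¹ᵁ U) k,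
      rs M hV (m k) = (M.restrictAppIso O.ι V).hom (gl (t k) V) := fun V hV k => by
    simp only [m, rs_rs]
    rfl
  have hgen' : ∀ k, IsGen M (L k) (rs M (hLO k) (m k)) := fun k => by
    rw [hgl]
    exact PProj.isGen_image O (isGen_locus (t k))
  have hmax : ∀ k (B : X.Opens) (hB : B ≤ f ⁻¹ᵁ U), IsGen M B (rs M hB (m k)) → B ≤ L k := fun k B hB hg => by
    have h1 : IsGen (M.restrict O.ι) (O.ι ⁻¹ᵁ B) (gl (t k) (O.ι ⁻¹ᵁ B)) := by
      have h2 := Ample.Restrict.isGen_restrict hg O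
      convert h2 using 1
      rw [rs_rs, hgl]
      exact (ConcreteCategory.congr_hom (M.restrictAppIso O.ι (O.ι ⁻¹ᵁ B)).hom_inv_id _).symm
    intro x hx
    exact ⟨⟨x, hB hx⟩, le_locus h1 hx, rfl⟩
  have hu : ∀ k l, ∃ a : Γ(X, L k), a • rs M le_rfl (rs M (hLO k) (m k)) = rs M (hLO k) (m l) :=
    fun k l => (hgen' k _ le_rfl).2 _
  choose u hu using hu
  refine ⟨{
    n := N
    c := fun k => cv f M he (m k)
    L := L
    L_le := hLO
    good := good
    affine := fun k hk => (haff k hk).image_of_isOpenImmersion O.ι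
    cover_good := fun x hx => ?_
    L_inf := fun k a => ?_
    u := u
    rel := fun k l a => ?_
    gen := fun k hk => ?_ }, m, fun _ => rfl⟩
  · obtain ⟨k, hk, hxk⟩ := hcov ⟨x, hx⟩
    exact ⟨k, hk, ⟨x, hx⟩, hxk, rfl⟩
  · refine le_antisymm (le_basicOpen_cv f M he (m k) a (hLO k) (hgen' k)) (le_inf ?_ ?_)
    · exact hmax k _ ((X.basicOpen_le _).trans inf_le_right) (isGen_basicOpen_cv f M he (m k) a)
    · exact (X.basicOpen_le _).trans inf_le_left
  · have hp : L k ⊓ P a ≤ piece f P a U := le_inf inf_le_right (inf_le_left.trans (hLO k))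
    refine ((he a).res (inf_le_right : L k ⊓ P a ≤ P a) _ le_rfl).1 ?_
    simp only [rs_self]
    rw [mul_smul, ← cv_rs f M he (m l) a _ hp, ← cv_rs f M he (m k) a _ hp]
    have h1 := congrArg (rs M (inf_le_left : L k ⊓ P a ≤ L k)) (hu k l)
    simp only [rs_smul, rs_rs] at h1
    exact h1.symm
  · refine eq_top_iff.2 fun z _ => ?_
    set R0 := Subring.closure (Set.range (f.appLE U (L k) (hLO k)) ∪ Set.range (u k)) with hR0
    let θ : Γ((O : Scheme.{u}), W k) →+* Γ(X, L k) := (O.ι.appIso (W k)).inv.hom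
    obtain ⟨z', rfl⟩ := (ConcreteCategory.bijective_of_isIso (O.ι.appIso (W k)).inv).2 z
    refine (Subring.closure_le (t := R0.comap θ)).2 ?_ (hgen k hk (W k) rfl z')
    rintro z'' (⟨y, rfl⟩ | ⟨l, hl⟩)
    · obtain ⟨y0, rfl⟩ : ∃ y0 : Γ(S, U), U.ι.appLE U ⊤ (fun z _ => z.2) y0 = y := by
        refine ⟨U.topIso.hom y, ?_⟩
        have e : U.ι.appLE U ⊤ (fun z _ => z.2) = U.topIso.inv := by
          simp [Scheme.Opens.ι_appLE, Scheme.Opens.topIso]
          rfl
        rw [e, ← CommRingCat.comp_apply, Iso.hom_inv_id]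
        rfl
      refine Subring.subset_closure (Or.inl ⟨y0, ?_⟩)
      show f.appLE U (L k) (hLO k) y0 = θ (q.appLE ⊤ (W k) _ (U.ι.appLE U ⊤ _ y0))
      rw [appLE_comp_apply, appLE_hom_congr (morphismRestrict_ι f U) U (W k) _
        ((fun z hz => hLO k ⟨z, hz, rfl⟩ : W k ≤ O.ι ⁻¹ᵁ (f ⁻¹ᵁ U)))]
      simp only [θ]
      rw [← appLE_comp_apply O.ι f U (L k) (W k) (hLO k) (fun z hz => ⟨z, hz, rfl⟩)]
      have e : O.ι.appLE (L k) (W k) (fun z hz => ⟨z, hz, rfl⟩) = (O.ι.appIso (W k)).hom :=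
        (Scheme.Hom.appIso_hom' O.ι (W k)).symm
      rw [e, ← CommRingCat.comp_apply (O.ι.appIso (W k)).hom, Iso.hom_inv_id]
      rfl
    · refine Subring.subset_closure (Or.inr ⟨l, ?_⟩)
      have h1 := congrArg (M.restrictAppIso O.ι (W k)).hom hl
      rw [restrict_smul] at h1
      replace h1 := (hgl (W k) (hLO k) l).trans h1
      have h2 := hgl (W k) (hLO k) k
      refine (hgen' k _ le_rfl).1 ?_
      show u k l • rs M le_rfl (rs M (hLO k) (m k)) = _ • rs M le_rfl (rs M (hLO k) (m k))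
      rw [hu, rs_self, h2]
      exact h1

/-- A quasi-projective morphism over a quasi-compact quasi-separated base has coordinate data. -/
theorem nonempty_pdata [CompactSpace S] [QuasiSeparatedSpace S] (hq : RelProj.IsQuasiProjective f) :
    Nonempty (PData f) := by
  classical
  obtain ⟨hlft, hqc, L, hL⟩ := hq
  haveI := hlft
  haveI := hqc
  obtain ⟨s, hs⟩ := isCompact_univ.elim_finite_subcover (fun V : S.affineOpens => (V.1 : Set S))
    (fun V => V.1.isOpen) fun y _ => by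
      obtain ⟨V, hV, hyV, -⟩ := exists_isAffineOpen_mem_and_subset (X := S) (x := y) (U := ⊤) trivial
      exact Set.mem_iUnion.2 ⟨⟨V, hV⟩, hyV⟩
  have hLi := Ample.RelAmple.isInvertible_of_isRelAmple hL
  have hev : ∀ V : s, ∃ n₀ : ℕ, ∀ n, n₀ ≤ n → ∃ (N : ℕ)
      (t : Fin N → Γ(CohB1.tensorPow (L.restrict (f ⁻¹ᵁ V.1.1).ι) n, ⊤)) (good : Fin N → Prop),
      (∀ x, ∃ i, good i ∧ x ∈ locus (t i)) ∧ (∀ i, good i → IsAffineOpen (locus (t i))) ∧
      ∀ i, good i → ∀ (O : ((f ⁻¹ᵁ V.1.1 : X.Opens) : Scheme.{u}).Opens) (hO : O = locus (t i))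
        (w : Γ(((f ⁻¹ᵁ V.1.1 : X.Opens) : Scheme.{u}), O)),
          w ∈ Subring.closure (Set.range ((f ∣_ V.1.1).appLE ⊤ O le_top).hom ∪
            {a | ∃ k, gl (t k) O = a • gl (t i) O}) := fun V => by
    haveI : IsAffine (V.1.1 : Scheme.{u}) := V.1.2
    haveI : LocallyOfFiniteType (f ∣_ V.1.1) :=
      MorphismProperty.of_isPullback (P := @LocallyOfFiniteType) (isPullback_morphismRestrict f _).flip hlft
    exact eventually_good_sections _ (hL.2 V.1)
  choose n₀ hn₀ using hev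
  haveI : QuasiSeparated f := by
    refine (IsZariskiLocalAtTarget.iff_of_iSup_eq_top (P := @QuasiSeparated) (fun V : s => V.1.1)
      (top_le_iff.1 fun y _ => ?_)).2 fun V => ?_
    · obtain ⟨V, hV, hy⟩ := Set.mem_iUnion₂.1 (hs (Set.mem_univ y))
      exact Opens.mem_iSup.2 ⟨⟨V, hV⟩, hy⟩
    · haveI := Ample.Pullback.quasiSeparatedSpace_of_isAmple (hL.2 V.1)
      exact QuasiSeparated.of_quasiSeparatedSpace (f ∣_ V.1.1)
  let n := Finset.univ.sup n₀
  let M := CohB1.tensorPow L n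
  have hM : PicF.IsInvertible M := Invertible.isInvertible_tensorPow hLi n
  haveI : M.IsQuasicoherent := QCohInv.isQCoh_of_isInvertible hM
  choose P e hxP he using Gen.isInvertible_iff.1 hM
  have hPc : ∀ x, ∃ a, x ∈ P a := fun x => ⟨x, hxP x⟩
  have hsys : ∀ V : s, ∃ (T : Sys f P V.1.1) (m : Fin T.n → Γ(M, f ⁻¹ᵁ V.1.1)),
      ∀ j, T.c j = cv f M he (m j) := fun V => by
    obtain ⟨N, t, good, h1, h2, h3⟩ := hn₀ V n (Finset.le_sup (f := n₀) (Finset.mem_univ V))
    let φ := (Ample.Pow.restrictPow (f ⁻¹ᵁ V.1.1).ι L n).symm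
    have hloc : ∀ i, locus (φ.hom.app ⊤ (t i)) = locus (t i) := fun i => locus_iso φ (t i)
    refine exists_sys f M he (fun i => φ.hom.app ⊤ (t i)) good (fun x => ?_) (fun i hi => ?_) fun i hi O hO w => ?_
    · obtain ⟨i, hi, hx⟩ := h1 x
      exact ⟨i, hi, (hloc i).ge hx⟩
    · rw [hloc i]; exact h2 i hi
    · refine Subring.closure_mono (Set.union_subset_union_right _ ?_) (h3 i hi O (hO.trans (hloc i)) w)
      rintro a ⟨k, hk⟩
      refine ⟨k, ?_⟩
      rw [← app_gl, ← app_gl, hk, Scheme.Modules.Hom.app_smul]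
  choose T m₀ hm₀ using hsys
  obtain ⟨m, G, ι, hι, hG⟩ := Span.exists_compatible (f := f) (M := M) (fun V : s => V.1.1) (fun V => V.1.2)
    (fun i => (T i).n) m₀
  have hext : ∀ i, ∃ T' : Sys f P i.1.1, ∃ e : T'.n = m i, ∀ j, T'.c j = cv f M he (G i (Fin.cast e j)) :=
    fun i => (T i).exists_extend hPc (fun j => cv f M he (G i j)) (ι i) (fun j => by
      show cv f M he (G i (ι i j)) = _
      rw [hι, hm₀])
      fun j k => prop2_cv f M he _ _
  choose T' hn hT' using hext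
  refine ⟨{
    I := X
    P := P
    P_cover := hPc
    J := s
    U := fun V => V.1.1
    affine := fun V => V.1.2
    cover := fun y => by
      obtain ⟨V, hV, hy⟩ := Set.mem_iUnion₂.1 (hs (Set.mem_univ y))
      exact ⟨⟨V, hV⟩, hy⟩
    sys := T'
    compat := fun β γ j y hy hy' => ?_ }⟩
  obtain ⟨W, hW, hyW, l, hl⟩ := hG γ β (Fin.cast (hn γ) j) y ⟨hy, hy'⟩
  refine ⟨W, hW.trans inf_le_left, hW.trans inf_le_right, hyW, fun k => l (Fin.cast (hn β) k), ?_⟩
  have h1 := congrArg (cv f M he) hl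
  rw [Span.rM_rM, cv_sum] at h1
  simp only [hT']
  refine (vres_cv f M he _ _).symm.trans (h1.trans ?_)
  funext a
  simp only [lin]
  refine (Equiv.sum_comp (finCongr (hn β)) _).symm.trans (Finset.sum_congr rfl fun k _ => ?_)
  exact congrArg (fun v : Vec f P W => _ * v a) (vres_cv f M he (hW.trans inf_le_left) _)

/-- A quasi-projective morphism over a quasi-compact quasi-separated base is a schematically dense open immersion
followed by a projective morphism. -/
theorem exists_projective_compactification [CompactSpace S] [QuasiSeparatedSpace S]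
    (hq : RelProj.IsQuasiProjective f) :
    ∃ (P : Scheme.{u}) (j : X ⟶ P) (p : P ⟶ S), IsOpenImmersion j ∧ QuasiCompact j ∧
      IsSchemeTheoreticallyDominant j ∧ RelProj.IsProjective p ∧ j ≫ p = f := by
  obtain ⟨D⟩ := nonempty_pdata f hq
  obtain ⟨P, p, j, h1, h2, h3, h4, h5⟩ := D.exists_compactification
  exact ⟨P, j, p, h2, h3, h4, h1, h5⟩

end Groth.Agent.H22.QProj
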