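import Groth.Agent.H22.QProj.Gen
import Groth.Agent.Lib.HProj.Chart

/-
Adapted from `Groth/Agent/Lib/PProj/Chart.lean`: only some of the coordinates are required to have affine loci on which
the ratios generate ("good" coordinates), as happens for morphisms that are quasi-projective but not proper.
-/

set_option autoImplicit false
set_option maxHeartbeats 1000000

noncomputable section

universe u

open CategoryTheory AlgebraicGeometry TopologicalSpace MvPolynomial Opposite HomogeneousLocalization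

namespace Groth.Agent.H22.QProj.PData

open Groth.Agent.Lib Groth.Agent.Lib.PProj

variable {X S : Scheme.{u}} {f : X ⟶ S} {D : PData f} {U : S.Opens}

namespace GSys

variable (G : D.GSys U)

/-- Evaluation at the generators. -/
def evA : MvPolynomial (Fin G.T.n) Γ(S, U) →+* D.sect U := eval₂Hom (D.strS U) G.τ

theorem evA_coe (p : MvPolynomial (Fin G.T.n) Γ(S, U)) : (G.evA p).1 = ev U G.T.c p :=
  (D.ev_eq_eval₂ G.τ G.τ_mem G.T.c G.c_eq p).symm

theorem evA_homogeneousComponent {d : ℕ} (p : MvPolynomial (Fin G.T.n) Γ(S, U)) :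
    G.evA (homogeneousComponent d p) = D.comp d (G.evA p) :=
  Subtype.ext (by rw [evA_coe, compA_ev, ← evA_coe]; rfl)

theorem ker_evA_le (j : Fin G.T.n) : RingHom.ker G.evA ≤ RingHom.ker (G.T.evalL j) := by
  intro p hp
  have h : ev U G.T.c p = 0 := by rw [← evA_coe, show G.evA p = 0 from hp]; rfl
  show G.T.evalL j p = 0
  rw [← sum_homogeneousComponent p, map_sum]
  refine Finset.sum_eq_zero fun d _ => eq_of_cover (B := fun a => G.T.L j ⊓ D.P a) (fun a => inf_le_left)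
    (fun x hx => by obtain ⟨a, ha⟩ := D.P_cover x; exact Opens.mem_iSup.2 ⟨a, hx, ha⟩) fun a => ?_
  have e := G.T.evalAt_eq j a (homogeneousComponent_isHomogeneous d p)
  rw [← coeff_ev, h, Pi.zero_apply, map_zero, map_zero] at e
  rw [map_zero]
  exact ((G.T.isUnit_c j a).pow d).mul_right_eq_zero.1 e.symm

/-- The ring map of a locus at `t = 1`. -/
def phi (j : Fin G.T.n) : D.sect U →+* Γ(X, G.T.L j) :=
  G.evA.liftOfSurjective G.surj ⟨G.T.evalL j, G.ker_evA_le j⟩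

theorem phi_evA (j : Fin G.T.n) (p : MvPolynomial (Fin G.T.n) Γ(S, U)) : G.phi j (G.evA p) = G.T.evalL j p :=
  RingHom.liftOfRightInverse_comp_apply _ _ _ _ _

theorem phi_strS (j : Fin G.T.n) (r : Γ(S, U)) : G.phi j (D.strS U r) = G.T.baseL j r := by
  have h : G.evA (C r) = D.strS U r := eval₂Hom_C _ _ _
  rw [← h, phi_evA, Sys.evalL, eval₂Hom_C]

theorem phi_τ (j k : Fin G.T.n) : G.phi j (G.τ k) = G.T.u j k := by
  have h : G.evA (MvPolynomial.X k) = G.τ k := eval₂Hom_X' _ _ _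
  rw [← h, phi_evA, Sys.evalL, eval₂Hom_X']

theorem coeff_eq {d : ℕ} {s : D.sect U} (hs : s ∈ D.deg U d) (j : Fin G.T.n) (a : D.I) :
    rX (G.T.le_piece j a) (PowerSeries.coeff d (s.1 a)) =
      rX (G.T.le_piece j a) (G.T.c j a) ^ d * rX (inf_le_left : G.T.L j ⊓ D.P a ≤ G.T.L j) (G.phi j s) := by
  obtain ⟨p, rfl⟩ : ∃ p, G.evA p = s := G.surj s
  rw [← D.comp_eq hs, ← evA_homogeneousComponent, phi_evA, evA_coe, coeff_ev,
    homogeneousComponent_of_mem (homogeneousComponent_mem d p), if_pos rfl]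
  exact G.T.evalAt_eq j a (homogeneousComponent_isHomogeneous d p)

theorem phi_τ_self (i : Fin G.T.n) : G.phi i (G.τ i) = 1 :=
  eq_of_cover (B := fun a => G.T.L i ⊓ D.P a) (fun a => inf_le_left)
    (fun x hx => by obtain ⟨a, ha⟩ := D.P_cover x; exact Opens.mem_iSup.2 ⟨a, hx, ha⟩) fun a => by
    rw [map_one, phi_τ]
    exact (G.T.isUnit_c i a).mul_left_injective (by simpa using (G.T.rel' i i a).symm)

variable {V : S.Opens} (H : D.GSys V)

theorem coeff_τ_res (h : V ≤ U) (i : Fin G.T.n) (k : Fin H.T.n) (a : D.I)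
    (h' : H.T.L k ⊓ D.P a ≤ piece f D.P a U) :
    rX h' (G.T.c i a) = rX (H.T.le_piece k a) (H.T.c k a) *
      rX (inf_le_left : H.T.L k ⊓ D.P a ≤ H.T.L k) (H.phi k (D.sres h (G.τ i))) := by
  have e := H.coeff_eq (D.sres_mem_deg h (G.τ_mem i)) k a
  rw [sres_coe, coeff_ares, rX_rX, ← G.c_eq, pow_one] at e
  exact e

theorem basicOpen_phi (h : V ≤ U) (i : Fin G.T.n) (k : Fin H.T.n) :
    X.basicOpen (H.phi k (D.sres h (G.τ i))) = H.T.L k ⊓ G.T.L i := by
  have key : ∀ a, X.basicOpen (H.phi k (D.sres h (G.τ i))) ⊓ D.P a = H.T.L k ⊓ G.T.L i ⊓ D.P a := fun a => by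
    have h' : H.T.L k ⊓ D.P a ≤ piece f D.P a U :=
      (H.T.le_piece k a).trans (piece_mono a h)
    have e := congrArg X.basicOpen (G.coeff_τ_res H h i k a h')
    rw [Scheme.basicOpen_mul, basicOpen_rX, basicOpen_rX, basicOpen_rX, ← G.T.L_inf, ← H.T.L_inf] at e
    ext x
    have hb : x ∈ X.basicOpen (H.phi k (D.sres h (G.τ i))) → x ∈ H.T.L k := fun hx => X.basicOpen_le _ hx
    have e' := SetLike.ext_iff.1 e x
    simp only [Opens.mem_inf] at e'
    simp only [Opens.coe_inf, Set.mem_inter_iff, SetLike.mem_coe]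
    tauto
  ext x
  obtain ⟨a, ha⟩ := D.P_cover x
  have e := SetLike.ext_iff.1 (key a) x
  simp only [Opens.mem_inf] at e
  simp only [Opens.coe_inf, Set.mem_inter_iff, SetLike.mem_coe]
  tauto

theorem phi_scale (h : V ≤ U) (i : Fin G.T.n) (k : Fin H.T.n) {W : X.Opens} (hi : W ≤ G.T.L i)
    (hk : W ≤ H.T.L k) {d : ℕ} {s : D.sect U} (hs : s ∈ D.deg U d) :
    rX hk (H.phi k (D.sres h s)) = rX hk (H.phi k (D.sres h (G.τ i))) ^ d * rX hi (G.phi i s) := by
  refine eq_of_cover (B := fun a => W ⊓ D.P a) (fun a => inf_le_left)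
    (fun x hx => by obtain ⟨a, ha⟩ := D.P_cover x; exact Opens.mem_iSup.2 ⟨a, hx, ha⟩) fun a => ?_
  have li : W ⊓ D.P a ≤ G.T.L i ⊓ D.P a := inf_le_inf_right _ hi
  have lk : W ⊓ D.P a ≤ H.T.L k ⊓ D.P a := inf_le_inf_right _ hk
  have h' : H.T.L k ⊓ D.P a ≤ piece f D.P a U := (H.T.le_piece k a).trans (piece_mono a h)
  have e1 := congrArg (rX li) (G.coeff_eq hs i a)
  have e2 := congrArg (rX lk) (H.coeff_eq (D.sres_mem_deg h hs) k a)
  have e3 := congrArg (rX lk) (G.coeff_τ_res H h i k a h')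
  rw [sres_coe, coeff_ares] at e2
  simp only [map_mul, map_pow, rX_rX] at e1 e2 e3 ⊢
  have hu := ((H.T.isUnit_c k a).map (rX lk)).pow d
  rw [rX_rX] at hu
  refine hu.mul_right_injective (e2.symm.trans (e1.trans ?_))
  rw [e3]
  ring

theorem isUnit_phi_τ (i : Fin G.T.n) : IsUnit (G.phi i (G.τ i)) := by rw [phi_τ_self]; exact isUnit_one

variable (hU : IsAffineOpen U)

local notation "𝒜" => D.degA U hU

theorem τ_memA (i : Fin G.T.n) : G.τ i ∈ D.degA U hU 1 := G.τ_mem i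

theorem awayHom_injective (i : Fin G.T.n) :
    Function.Injective (HProj.Pt.awayHom 𝒜 (G.τ i) (G.phi i) (G.isUnit_phi_τ i)) := by
  classical
  rw [injective_iff_map_eq_zero]
  intro z hz
  obtain ⟨d, b, hb, rfl⟩ := Away.mk_surjective 𝒜 (G.τ_memA hU i) z
  have hd : d • 1 = d := by simp
  have h0 : G.phi i b = 0 := by
    have := HProj.Pt.awayHom_mk_mul 𝒜 (G.τ_memA hU i) (G.phi i) (G.isUnit_phi_τ i) d hb
    rw [hz, mul_zero] at this
    exact this.symm
  have hb' : b ∈ D.deg U d := hd ▸ hb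
  have key : ∀ k : {k // G.T.good k}, ∃ m : ℕ, G.phi k.1 (G.τ i) ^ m * G.phi k.1 b = 0 := by
    rintro ⟨k, hk⟩
    let W := X.basicOpen (G.phi k (G.τ i))
    have hWk : W ≤ G.T.L k := X.basicOpen_le _
    have hWi : W ≤ G.T.L i := by
      have := G.basicOpen_phi G le_rfl i k
      rw [sres_self] at this
      exact this.le.trans inf_le_right
    let := (rX hWk).toAlgebra
    haveI : IsLocalization.Away (G.phi k (G.τ i)) Γ(X, W) := (G.T.affine k hk).isLocalization_basicOpen _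
    obtain ⟨⟨_, m, rfl⟩, hm⟩ := (IsLocalization.map_eq_zero_iff (Submonoid.powers (G.phi k (G.τ i)))
      Γ(X, W) (G.phi k b)).1 (by
        have := G.phi_scale G le_rfl i k hWi hWk hb'
        simp only [sres_self] at this
        refine this.trans ?_
        rw [h0, map_zero, mul_zero])
    exact ⟨m, hm⟩
  choose m hm using key
  let M := Finset.univ.sup m
  have hz' : G.τ i ^ M * b = 0 := by
    have hmem : G.τ i ^ M * b ∈ D.deg U (M + d) := by
      have := SetLike.mul_mem_graded (A := D.deg U) (SetLike.pow_mem_graded M (G.τ_mem i)) hb'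
      simpa using this
    refine D.deg_ext hmem (zero_mem _) fun a => ?_
    refine eq_of_cover (B := fun k : {k // G.T.good k} => G.T.L k.1 ⊓ D.P a) (fun k => G.T.le_piece k.1 a)
        (G.T.cover_le_good a) fun k => ?_
    obtain ⟨c, hc⟩ := Nat.exists_eq_add_of_le (Finset.le_sup (f := m) (Finset.mem_univ k))
    have h00 : G.phi k.1 (G.τ i ^ M * b) = 0 := by
      rw [map_mul, map_pow, show M = m k + c from hc, pow_add, mul_right_comm, hm k, zero_mul]
    rw [G.coeff_eq hmem k.1 a, h00, map_zero, mul_zero]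
    simp
  apply HomogeneousLocalization.val_injective
  rw [Away.val_mk, HomogeneousLocalization.val_zero, Localization.mk_eq_mk', IsLocalization.mk'_eq_zero_iff]
  exact ⟨⟨_, M, rfl⟩, hz'⟩

theorem awayHom_bijective (i : Fin G.T.n) (hi : G.T.good i) :
    Function.Bijective (HProj.Pt.awayHom 𝒜 (G.τ i) (G.phi i) (G.isUnit_phi_τ i)) := by
  classical
  refine ⟨G.awayHom_injective hU i, ?_⟩
  intro b
  have hb : b ∈ Subring.closure (Set.range (f.appLE U (G.T.L i) (G.T.L_le i)) ∪ Set.range (G.T.u i)) :=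
    (G.T.gen i hi).ge (Subring.mem_top b)
  show b ∈ (HProj.Pt.awayHom 𝒜 (G.τ i) (G.phi i) (G.isUnit_phi_τ i)).range
  refine Subring.closure_le.2 ?_ hb
  rintro _ (⟨r, rfl⟩ | ⟨j, rfl⟩)
  · refine ⟨Away.mk 𝒜 (G.τ_memA hU i) 0 (D.strS U r)
      (by show _ ∈ D.deg U _; simpa using D.strS_mem_deg U r), ?_⟩
    rw [HProj.Pt.awayHom_eq_iff, pow_zero, one_mul, phi_strS]
    rfl
  · refine ⟨Away.mk 𝒜 (G.τ_memA hU i) 1 (G.τ j) (by show _ ∈ D.deg U _; simpa using G.τ_mem j), ?_⟩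
    rw [HProj.Pt.awayHom_eq_iff, pow_one, phi_τ_self, one_mul, phi_τ]

/-- The ring map into global sections of the locus. -/
def phiTop (i : Fin G.T.n) : D.sect U →+* Γ((G.T.L i : Scheme.{u}), ⊤) :=
  (G.T.L i).topIso.inv.hom.comp (G.phi i)

theorem isUnit_phiTop (i : Fin G.T.n) : IsUnit (G.phiTop i (G.τ i)) :=
  (G.isUnit_phi_τ i).map (G.T.L i).topIso.inv.hom

/-- The chart map of a locus. -/
def piecePt (i : Fin G.T.n) : (G.T.L i : Scheme.{u}) ⟶ Proj 𝒜 :=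
  HProj.Pt.pt 𝒜 (G.τ i) (G.τ_memA hU i) (G.phiTop i) (G.isUnit_phiTop i)

theorem awayHom_phiTop_injective (i : Fin G.T.n) :
    Function.Injective (HProj.Pt.awayHom 𝒜 (G.τ i) (G.phiTop i) (G.isUnit_phiTop i)) := by
  have h : HProj.Pt.awayHom 𝒜 (G.τ i) (G.phiTop i) (G.isUnit_phiTop i) =
      (G.T.L i).topIso.inv.hom.comp (HProj.Pt.awayHom 𝒜 _ (G.phi i) (G.isUnit_phi_τ i)) :=
    (HProj.Pt.awayHom_comp 𝒜 _ _ _ _).symm
  rw [h]
  exact (ConcreteCategory.bijective_of_isIso (G.T.L i).topIso.inv).1.comp (G.awayHom_injective hU i)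

theorem isOpenImmersion_piecePt (i : Fin G.T.n) (hi : G.T.good i) :
    IsOpenImmersion (G.piecePt hU i) ∧ Set.range (G.piecePt hU i) = Proj.basicOpen 𝒜 (G.τ i) := by
  haveI : IsAffine (G.T.L i : Scheme.{u}) := G.T.affine i hi
  refine HProj.Pt.isOpenImmersion_pt 𝒜 _ _ _ ?_
  have h : HProj.Pt.awayHom 𝒜 (G.τ i) (G.phiTop i) (G.isUnit_phiTop i) =
      (G.T.L i).topIso.inv.hom.comp (HProj.Pt.awayHom 𝒜 _ (G.phi i) (G.isUnit_phi_τ i)) :=
    (HProj.Pt.awayHom_comp 𝒜 _ _ _ _).symm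
  rw [h]
  exact (ConcreteCategory.bijective_of_isIso (G.T.L i).topIso.inv).comp (G.awayHom_bijective hU i hi)

theorem piecePt_preimage (i k : Fin G.T.n) :
    G.piecePt hU i ⁻¹ᵁ Proj.basicOpen 𝒜 (G.τ k) = (G.T.L i).ι ⁻¹ᵁ G.T.L k := by
  rw [piecePt, HProj.Pt.pt_preimage_basicOpen 𝒜 _ (G.τ_memA hU k)]
  apply (G.T.L i).ι.image_injective
  show _ ''ᵁ _ = _ ''ᵁ _
  rw [Scheme.Hom.image_preimage_eq_opensRange_inf, Scheme.Opens.opensRange_ι, Scheme.image_basicOpen]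
  have e := G.basicOpen_phi G le_rfl k i
  rw [sres_self] at e
  rw [← e]
  simp only [phiTop, RingHom.comp_apply]
  simp
  exact X.basicOpen_res_eq _ _

theorem appTop_phiTop (i : Fin G.T.n) {W : X.Opens} (hW : W ≤ G.T.L i) (s : D.sect U) :
    (X.homOfLE hW).appTop (G.phiTop i s) = W.topIso.inv (rX hW (G.phi i s)) := by
  simp only [phiTop, RingHom.comp_apply, rX]
  rw [← CommRingCat.comp_apply, ← CommRingCat.comp_apply]
  exact congrArg (fun m => m.hom (G.phi i s)) (HProj.Data.topIso_inv_homOfLE hW)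

theorem homOfLE_piecePt (i k : Fin G.T.n) (W : X.Opens) (hi : W ≤ G.T.L i) (hk : W ≤ G.T.L k) :
    X.homOfLE hi ≫ G.piecePt hU i = X.homOfLE hk ≫ G.piecePt hU k := by
  rw [piecePt, piecePt, HProj.Pt.comp_pt, HProj.Pt.comp_pt]
  have hle : W ≤ X.basicOpen (G.phi k (G.τ i)) := by
    have := G.basicOpen_phi G le_rfl i k
    rw [sres_self] at this
    rw [this]; exact le_inf hk hi
  have huik : IsUnit ((X.homOfLE hk).appTop (G.phiTop k (G.τ i))) := by
    rw [appTop_phiTop]; exact (isUnit_rX hk hle).map W.topIso.inv.hom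
  refine Eq.trans ?_ (HProj.Pt.pt_indep 𝒜 (G.τ_memA hU i) (G.τ_memA hU k)
    ((X.homOfLE hk).appTop.hom.comp (G.phiTop k)) huik _)
  symm
  refine HProj.Pt.pt_scale 𝒜 _ _ _ (W.topIso.inv (rX hk (G.phi k (G.τ i)))) fun d a ha => ?_
  show (X.homOfLE hk).appTop (G.phiTop k a) = _ ^ d * (X.homOfLE hi).appTop (G.phiTop i a)
  have e := G.phi_scale G le_rfl i k hi hk (show a ∈ D.deg U d from ha)
  simp only [sres_self] at e
  rw [appTop_phiTop, appTop_phiTop, e, map_mul, map_pow]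

theorem isOpenCover_loci : TopologicalSpace.IsOpenCover
    (fun i => (f ⁻¹ᵁ U).ι ⁻¹ᵁ G.T.L i : Fin G.T.n → ((f ⁻¹ᵁ U : X.Opens) : Scheme.{u}).Opens) := by
  refine top_le_iff.1 fun x _ => ?_
  obtain ⟨i, hi⟩ := Opens.mem_iSup.1 (G.T.cover x.2)
  exact Opens.mem_iSup.2 ⟨i, hi⟩

theorem exists_chart : ∃ e : ((f ⁻¹ᵁ U : X.Opens) : Scheme.{u}) ⟶ Proj 𝒜,
    IsOpenImmersion e ∧ (∀ i, X.homOfLE (G.T.L_le i) ≫ e = G.piecePt hU i) ∧
      ∀ i y, e y ∈ Proj.basicOpen 𝒜 (G.τ i) ↔ (f ⁻¹ᵁ U).ι y ∈ G.T.L i := by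
  let Y : Scheme.{u} := (f ⁻¹ᵁ U : X.Opens)
  let P : Fin G.T.n → Y.Opens := fun i => (f ⁻¹ᵁ U).ι ⁻¹ᵁ G.T.L i
  let 𝒰 := Y.openCoverOfIsOpenCover P G.isOpenCover_loci
  have hle : ∀ i, Set.range ((P i).ι ≫ (f ⁻¹ᵁ U).ι) ⊆ Set.range (G.T.L i).ι := fun i => by
    rw [Scheme.Opens.range_ι]; rintro _ ⟨y, rfl⟩; exact y.2
  let a : ∀ i, (P i : Scheme.{u}) ⟶ (G.T.L i : Scheme.{u}) := fun i =>
    IsOpenImmersion.lift (G.T.L i).ι ((P i).ι ≫ (f ⁻¹ᵁ U).ι) (hle i)
  have ha : ∀ i, a i ≫ (G.T.L i).ι = (P i).ι ≫ (f ⁻¹ᵁ U).ι := fun i => IsOpenImmersion.lift_fac _ _ (hle i)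
  let g : ∀ i, 𝒰.X i ⟶ Proj 𝒜 := fun i => a i ≫ G.piecePt hU i
  have hglue : ∀ i k, Limits.pullback.fst (𝒰.f i) (𝒰.f k) ≫ g i = Limits.pullback.snd (𝒰.f i) (𝒰.f k) ≫ g k := by
    intro i k
    let W : X.Opens := G.T.L i ⊓ G.T.L k
    let c : Limits.pullback (𝒰.f i) (𝒰.f k) ⟶ X := Limits.pullback.fst (𝒰.f i) (𝒰.f k) ≫ (P i).ι ≫ (f ⁻¹ᵁ U).ι
    have hc : c = Limits.pullback.snd (𝒰.f i) (𝒰.f k) ≫ (P k).ι ≫ (f ⁻¹ᵁ U).ι :=
      Limits.pullback.condition_assoc _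
    have hr : Set.range c ⊆ Set.range W.ι := by
      rw [Scheme.Opens.range_ι]
      rintro _ ⟨y, rfl⟩
      refine ⟨(Limits.pullback.fst (𝒰.f i) (𝒰.f k) y).2, ?_⟩
      rw [hc]
      exact (Limits.pullback.snd (𝒰.f i) (𝒰.f k) y).2
    let w := IsOpenImmersion.lift W.ι c hr
    have hw : w ≫ W.ι = c := IsOpenImmersion.lift_fac _ _ hr
    have e1 : Limits.pullback.fst (𝒰.f i) (𝒰.f k) ≫ a i = w ≫ X.homOfLE (inf_le_left : W ≤ G.T.L i) := by
      rw [← cancel_mono (G.T.L i).ι, Category.assoc, Category.assoc, Scheme.homOfLE_ι, hw]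
      exact congrArg (Limits.pullback.fst (𝒰.f i) (𝒰.f k) ≫ ·) (ha i)
    have e2 : Limits.pullback.snd (𝒰.f i) (𝒰.f k) ≫ a k = w ≫ X.homOfLE (inf_le_right : W ≤ G.T.L k) := by
      rw [← cancel_mono (G.T.L k).ι, Category.assoc, Category.assoc, Scheme.homOfLE_ι, hw, hc]
      exact congrArg (Limits.pullback.snd (𝒰.f i) (𝒰.f k) ≫ ·) (ha k)
    simp only [g]
    rw [reassoc_of% e1, reassoc_of% e2, G.homOfLE_piecePt hU i k W inf_le_left inf_le_right]
  let Φ : Y ⟶ Proj 𝒜 := 𝒰.glueMorphisms g hglue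
  have hΦ : ∀ i, X.homOfLE (G.T.L_le i) ≫ Φ = G.piecePt hU i := by
    intro i
    have hr : Set.range (X.homOfLE (G.T.L_le i)) ⊆ Set.range (P i).ι := by
      rw [Scheme.Opens.range_ι]
      rintro _ ⟨y, rfl⟩
      show (f ⁻¹ᵁ U).ι (X.homOfLE _ y) ∈ G.T.L i
      rw [← Scheme.Hom.comp_apply, Scheme.homOfLE_ι]
      exact y.2
    let b := IsOpenImmersion.lift (P i).ι _ hr
    have hb : b ≫ (P i).ι = X.homOfLE (G.T.L_le i) := IsOpenImmersion.lift_fac _ _ hr
    have hba : b ≫ a i = 𝟙 _ := by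
      rw [← cancel_mono (G.T.L i).ι, Category.assoc, ha, reassoc_of% hb, Scheme.homOfLE_ι, Category.id_comp]
    rw [← hb, Category.assoc, show (P i).ι ≫ Φ = g i from 𝒰.ι_glueMorphisms g hglue i]
    exact (Category.assoc _ _ _).symm.trans ((congrArg (· ≫ G.piecePt hU i) hba).trans (Category.id_comp _))
  have hpre : ∀ (i : Fin G.T.n) (y : Y), Φ y ∈ Proj.basicOpen 𝒜 (G.τ i) ↔ (f ⁻¹ᵁ U).ι y ∈ G.T.L i := by
    intro i y
    obtain ⟨k, hk⟩ := Opens.mem_iSup.1 (G.isOpenCover_loci.ge (Opens.mem_top y))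
    let y' : (G.T.L k : Scheme.{u}) := ⟨(f ⁻¹ᵁ U).ι y, hk⟩
    have hy : X.homOfLE (G.T.L_le k) y' = y := by
      apply (f ⁻¹ᵁ U).ι.isOpenEmbedding.injective
      rw [← Scheme.Hom.comp_apply, Scheme.homOfLE_ι]
      rfl
    rw [← hy, ← Scheme.Hom.comp_apply, hΦ]
    have := SetLike.ext_iff.1 (G.piecePt_preimage hU k i) y'
    refine this.trans ?_
    rw [hy]
    rfl
  haveI : IsOpenImmersion Φ := by
    let P' : {i // G.T.good i} → Y.Opens := fun i => P i.1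
    have hcov' : TopologicalSpace.IsOpenCover P' := by
      refine top_le_iff.1 fun x _ => ?_
      obtain ⟨i, hi, hx⟩ := G.T.cover_good _ x.2
      exact Opens.mem_iSup.2 ⟨⟨i, hi⟩, hx⟩
    let 𝒱 := Y.openCoverOfIsOpenCover P' hcov'
    have hι : ∀ i, (P i).ι ≫ Φ = g i := fun i => 𝒰.ι_glueMorphisms g hglue i
    haveI : ∀ i, IsOpenImmersion (𝒱.f i ≫ Φ) := fun i => by
      show IsOpenImmersion ((P i.1).ι ≫ Φ)
      rw [hι]
      haveI := (G.isOpenImmersion_piecePt hU i.1 i.2).1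
      haveI : IsOpenImmersion (a i.1) := by
        haveI : IsOpenImmersion (a i.1 ≫ (G.T.L i.1).ι) := by rw [ha]; infer_instance
        exact IsOpenImmersion.of_comp (a i.1) (G.T.L i.1).ι
      exact IsOpenImmersion.comp (a i.1) (G.piecePt hU i.1)
    refine IsOpenImmersion.of_openCover_source Φ 𝒱 ?_ fun i => inferInstance
    intro y y' hyy
    obtain ⟨k, hgk, hk⟩ := G.T.cover_good _ y.2
    have hk' : y' ∈ P k := (hpre k y').1 (hyy ▸ (hpre k y).2 hk)
    have h3 : (𝒱.f ⟨k, hgk⟩ ≫ Φ) ⟨y, hk⟩ = (𝒱.f ⟨k, hgk⟩ ≫ Φ) ⟨y', hk'⟩ := hyy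
    exact congrArg (𝒱.f ⟨k, hgk⟩) ((𝒱.f ⟨k, hgk⟩ ≫ Φ).isOpenEmbedding.injective h3)
  exact ⟨Φ, inferInstance, hΦ, hpre⟩

include hU in
theorem iSup_basicOpen_τ (z : Proj 𝒜) : ∃ j, z ∈ Proj.basicOpen 𝒜 (G.τ j) := by
  by_contra hne
  simp only [not_exists, ProjectiveSpectrum.mem_basicOpen, not_not, Proj.basicOpen,
    SetLike.mem_coe] at hne
  refine z.not_irrelevant_le ?_
  rw [HomogeneousIdeal.irrelevant_le]
  intro d hd x hx
  obtain ⟨p, rfl⟩ : ∃ p, G.evA p = x := G.surj x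
  rw [← D.comp_eq (show G.evA p ∈ D.deg U d from hx), ← evA_homogeneousComponent]
  have hspan : homogeneousComponent d p ∈
      Ideal.span ((MvPolynomial.X : Fin G.T.n → MvPolynomial (Fin G.T.n) Γ(S, U)) '' Set.univ) := by
    rw [MvPolynomial.mem_ideal_span_X_image]
    intro m hm
    have hmd : m.degree = d := by
      by_contra hne'
      rw [MvPolynomial.mem_support_iff, coeff_homogeneousComponent, if_neg hne'] at hm
      exact hm rfl
    obtain ⟨j, hj⟩ : ∃ j, m j ≠ 0 := by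
      by_contra hz
      simp only [not_exists, not_not] at hz
      have : m = 0 := Finsupp.ext hz
      rw [this, map_zero] at hmd
      omega
    exact ⟨j, Set.mem_univ _, hj⟩
  have hmap := Ideal.mem_map_of_mem G.evA hspan
  rw [Ideal.map_span] at hmap
  refine (Ideal.span_le.2 ?_) hmap
  rintro _ ⟨_, ⟨j, -, rfl⟩, rfl⟩
  rw [evA, eval₂Hom_X']
  exact not_not.1 (fun hc => hne j hc)

end GSys

variable (D)

/-- The chosen system over an affine open. -/
def gs (U : S.Opens) (hU : IsAffineOpen U) : D.GSys U := (D.nonempty_gsys hU).some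

/-- The chart over an affine open. -/
def chart (U : S.Opens) (hU : IsAffineOpen U) :
    ((f ⁻¹ᵁ U : X.Opens) : Scheme.{u}) ⟶ Proj (D.alg.deg U hU) :=
  ((D.gs U hU).exists_chart hU).choose

instance isOpenImmersion_chart (U : S.Opens) (hU : IsAffineOpen U) : IsOpenImmersion (D.chart U hU) :=
  ((D.gs U hU).exists_chart hU).choose_spec.1

theorem homOfLE_chart {U : S.Opens} (hU : IsAffineOpen U) (i : Fin (D.gs U hU).T.n) :
    X.homOfLE ((D.gs U hU).T.L_le i) ≫ D.chart U hU = (D.gs U hU).piecePt hU i :=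
  ((D.gs U hU).exists_chart hU).choose_spec.2.1 i

theorem chart_mem_iff {U : S.Opens} (hU : IsAffineOpen U) (i : Fin (D.gs U hU).T.n)
    (y : ((f ⁻¹ᵁ U : X.Opens) : Scheme.{u})) :
    D.chart U hU y ∈ Proj.basicOpen (D.degA U hU) ((D.gs U hU).τ i) ↔ (f ⁻¹ᵁ U).ι y ∈ (D.gs U hU).T.L i :=
  ((D.gs U hU).exists_chart hU).choose_spec.2.2 i y

theorem hom_ext_cover {A : X.Opens} {ι : Type*} {B : ι → X.Opens} (hle : ∀ i, B i ≤ A) (hc : A ≤ ⨆ i, B i)
    {Z : Scheme.{u}} {g g' : (A : Scheme.{u}) ⟶ Z} (h : ∀ i, X.homOfLE (hle i) ≫ g = X.homOfLE (hle i) ≫ g') :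
    g = g' := by
  let Y : Scheme.{u} := (A : X.Opens)
  have hcov : TopologicalSpace.IsOpenCover (fun i => A.ι ⁻¹ᵁ B i : ι → Y.Opens) := by
    refine top_le_iff.1 fun x _ => ?_
    obtain ⟨i, hi⟩ := Opens.mem_iSup.1 (hc x.2)
    exact Opens.mem_iSup.2 ⟨i, hi⟩
  refine Scheme.Cover.hom_ext (Y.openCoverOfIsOpenCover _ hcov) _ _ fun (i : ι) => ?_
  have hr : Set.range (((A.ι ⁻¹ᵁ B i : Y.Opens)).ι ≫ A.ι) ⊆ Set.range (B i).ι := by
    rw [Scheme.Opens.range_ι]; rintro _ ⟨y, rfl⟩; exact y.2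
  let a := IsOpenImmersion.lift (B i).ι _ hr
  have ha : a ≫ X.homOfLE (hle i) = (A.ι ⁻¹ᵁ B i : Y.Opens).ι := by
    rw [← cancel_mono A.ι, Category.assoc, Scheme.homOfLE_ι]
    exact IsOpenImmersion.lift_fac _ _ hr
  show (A.ι ⁻¹ᵁ B i : Y.Opens).ι ≫ g = (A.ι ⁻¹ᵁ B i : Y.Opens).ι ≫ g'
  rw [← ha, Category.assoc, Category.assoc, h i]

theorem pt_congr {U : S.Opens} (hU : IsAffineOpen U) {T : Scheme.{u}} {s : D.sect U} (hs : s ∈ D.degA U hU 1)
    {φ φ' : D.sect U →+* Γ(T, ⊤)} (h : φ = φ') (hu : IsUnit (φ s)) (hu' : IsUnit (φ' s)) :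
    HProj.Pt.pt (D.degA U hU) s hs φ hu = HProj.Pt.pt (D.degA U hU) s hs φ' hu' := by
  subst h; rfl

theorem isFTDeg_one : D.alg.IsFTDeg 1 := by
  classical
  intro U hU
  let G := D.gs U hU
  refine ⟨Finset.univ.image G.τ, ?_, fun x hx => ?_⟩
  · intro t ht
    obtain ⟨j, -, rfl⟩ := Finset.mem_image.1 ht
    exact G.τ_mem j
  · obtain ⟨p, rfl⟩ : ∃ p, G.evA p = x := G.surj x
    let a : Fin G.T.n → Γ(S, U) := fun j => coeff (Finsupp.single j 1) p
    refine ⟨fun t => ∑ j ∈ Finset.univ.filter (fun j => G.τ j = t), a j, ?_⟩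
    show G.evA p = ∑ t ∈ _, D.strS U _ * t
    rw [← D.comp_eq (show G.evA p ∈ D.deg U 1 from hx), ← GSys.evA_homogeneousComponent]
    have hlin : homogeneousComponent 1 p = ∑ j, C (a j) * MvPolynomial.X j := by
      ext m
      rw [coeff_homogeneousComponent, coeff_sum]
      by_cases hm : m.degree = 1
      · obtain ⟨j, rfl⟩ : ∃ j, Finsupp.single j 1 = m := by
          obtain ⟨j, hj⟩ := Finsupp.range_single_one.ge (show m ∈ {d : Fin G.T.n →₀ ℕ | d.degree = 1} from hm)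
          exact ⟨j, hj⟩
        rw [if_pos hm, Finset.sum_eq_single j]
        · simp [a]
        · intro k _ hk
          simp [coeff_C_mul, coeff_X', Finsupp.single_left_inj one_ne_zero, hk]
        · simp
      · rw [if_neg hm]
        refine (Finset.sum_eq_zero fun k _ => ?_).symm
        rw [coeff_C_mul, coeff_X', if_neg, mul_zero]
        rintro rfl
        exact hm (Finsupp.degree_single _ _)
    rw [hlin, map_sum, ← Finset.sum_fiberwise_of_maps_to (g := G.τ)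
      (fun j hj => Finset.mem_image_of_mem G.τ hj)]
    refine Finset.sum_congr (by congr!) fun t _ => ?_
    rw [map_sum]
    refine Eq.trans (Finset.sum_congr rfl fun j hj => ?_) (Finset.sum_mul _ _ _).symm
    rw [map_mul]
    simp only [GSys.evA, eval₂Hom_C, eval₂Hom_X', (Finset.mem_filter.1 hj).2]

theorem chart_over (U : S.Opens) (hU : IsAffineOpen U) :
    D.chart U hU ≫ Proj.toSpecZero (D.alg.deg U hU) ≫ Spec.map (D.alg.strZero U hU) ≫ hU.fromSpec =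
      (f ⁻¹ᵁ U).ι ≫ f := by
  let G := D.gs U hU
  refine hom_ext_cover (fun i => G.T.L_le i) ?_ fun i => ?_
  · exact G.T.cover
  rw [← Category.assoc, D.homOfLE_chart hU i, Scheme.homOfLE_ι_assoc]
  have h1 : G.piecePt hU i ≫ Proj.toSpecZero (D.degA U hU) =
      Chow.PointMap.toSpecHom ((G.phiTop i).comp (algebraMap (D.degA U hU 0) (D.sect U))) :=
    HProj.Pt.pt_toSpecZero _ _ _ _
  have h2 : Chow.PointMap.toSpecHom ((G.phiTop i).comp (algebraMap (D.degA U hU 0) (D.sect U))) ≫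
      Spec.map (D.alg.strZero U hU) = (G.T.L i).toSpecΓ ≫ Spec.map (f.appLE U (G.T.L i) (G.T.L_le i)) := by
    refine (Chow.PointMap.toSpecHom_specMap _ (D.alg.strZero U hU).hom).trans ?_
    show (G.T.L i : Scheme.{u}).toSpecΓ ≫ Spec.map _ =
      ((G.T.L i : Scheme.{u}).toSpecΓ ≫ Spec.map (G.T.L i).topIso.inv) ≫ _
    rw [Category.assoc, ← Spec.map_comp]
    congr 2
    refine CommRingCat.hom_ext (RingHom.ext fun r => ?_)
    show (G.T.L i).topIso.inv (G.phi i (D.strS U r)) =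
      (G.T.L i).topIso.inv (f.appLE U (G.T.L i) (G.T.L_le i) r)
    rw [GSys.phi_strS]
    rfl
  refine ((congrArg (· ≫ Spec.map (D.alg.strZero U hU) ≫ hU.fromSpec) h1).trans
    ((Category.assoc _ _ _).symm.trans (congrArg (· ≫ hU.fromSpec) h2))) |> fun e => ?_
  refine Eq.trans (Category.assoc _ _ _).symm (e.trans ?_)
  rw [Category.assoc]
  refine (Scheme.Opens.toSpecΓ_SpecMap_appLE_assoc _ _ _ _ _).trans ?_
  rw [IsAffineOpen.toSpecΓ_fromSpec, Scheme.Hom.resLE_comp_ι]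

theorem chart_res (U : S.Opens) (hU : IsAffineOpen U) (r : Γ(S, U)) :
    X.homOfLE (f.preimage_mono (S.basicOpen_le r)) ≫ D.chart U hU =
      D.chart (S.basicOpen r) (hU.basicOpen r) ≫
        Proj.map (D.alg.res hU (hU.basicOpen r) (S.basicOpen_le r)) (D.alg.irrelevant_le_map U hU r) := by
  have hle : S.basicOpen r ≤ U := S.basicOpen_le r
  let hV := hU.basicOpen r
  let G := D.gs U hU
  let H := D.gs (S.basicOpen r) hV
  refine hom_ext_cover (B := fun q : Fin G.T.n × Fin H.T.n => G.T.L q.1 ⊓ H.T.L q.2)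
    (fun q => inf_le_right.trans (H.T.L_le _)) (fun x hx => ?_) fun q => ?_
  · obtain ⟨i, hi⟩ := Opens.mem_iSup.1 (G.T.cover (f.preimage_mono hle hx))
    obtain ⟨k, hk⟩ := Opens.mem_iSup.1 (H.T.cover hx)
    exact Opens.mem_iSup.2 ⟨⟨i, k⟩, hi, hk⟩
  obtain ⟨i, k⟩ := q
  let W : X.Opens := G.T.L i ⊓ H.T.L k
  rw [Scheme.homOfLE_homOfLE_assoc, ← Category.assoc (X.homOfLE _) (D.chart _ _)]
  rw [← Scheme.homOfLE_homOfLE_assoc _ (inf_le_left : W ≤ G.T.L i) (G.T.L_le i), D.homOfLE_chart hU i,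
    ← Scheme.homOfLE_homOfLE _ (inf_le_right : W ≤ H.T.L k) (H.T.L_le k), Category.assoc _ _ (D.chart _ _),
    D.homOfLE_chart hV k, GSys.piecePt, GSys.piecePt]
  refine (HProj.Pt.comp_pt _ _ _ _ _).trans ?_
  let θ : D.degA U hU →+*ᵍ D.degA (S.basicOpen r) hV := D.alg.res hU hV hle
  have hθ : θ (G.τ i) = D.sres hle (G.τ i) := rfl
  let ψ := (X.homOfLE (inf_le_right : W ≤ H.T.L k)).appTop.hom.comp (H.phiTop k)
  have hu2 : IsUnit (ψ (θ (G.τ i))) := by
    rw [hθ]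
    show IsUnit ((X.homOfLE (inf_le_right : W ≤ H.T.L k)).appTop (H.phiTop k (D.sres hle (G.τ i))))
    rw [GSys.appTop_phiTop]
    refine (isUnit_rX _ ?_).map W.topIso.inv.hom
    rw [G.basicOpen_phi H hle i k]
    exact le_inf inf_le_right inf_le_left
  have e1 := HProj.Pt.pt_indep (D.degA (S.basicOpen r) hV) (H.τ_memA hV k)
    (θ.map_mem (G.τ_memA hU i)) ψ ((H.isUnit_phiTop k).map (X.homOfLE (inf_le_right : W ≤ H.T.L k)).appTop.hom) hu2
  have e2 := HProj.Pt.pt_map (D.degA U hU) (D.degA (S.basicOpen r) hV) θ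
    (D.alg.irrelevant_le_map U hU r) (G.τ_memA hU i) ψ hu2
  refine Eq.trans ?_ (((congrArg (· ≫ _) (HProj.Pt.comp_pt _ _ _ _ _)).trans
    ((congrArg (· ≫ _) e1).trans e2))).symm
  symm
  refine HProj.Pt.pt_scale (D.degA U hU) _ _ _ (W.topIso.inv (rX inf_le_right (H.phi k (D.sres hle (G.τ i)))))
    fun d a ha => ?_
  show (X.homOfLE (inf_le_right : W ≤ H.T.L k)).appTop (H.phiTop k (D.sres hle a)) =
    _ ^ d * (X.homOfLE (inf_le_left : W ≤ G.T.L i)).appTop (G.phiTop i a)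
  rw [GSys.appTop_phiTop, GSys.appTop_phiTop,
    G.phi_scale H hle i k (inf_le_left : W ≤ G.T.L i) inf_le_right (show a ∈ D.deg U d from ha), map_mul, map_pow]

end Groth.Agent.H22.QProj.PData
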