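import Groth.Agent.H22.QProj.Data
import Groth.Agent.H22.StrictTransform.CommonTarget
import Groth.Agent.H22.LocBlow.Extend
import Groth.Agent.H22.LocBlow.EssQP
import Groth.Agent.Lib.PProj.Compose
import Groth.Agent.Lib.HProj.Proper

/-!
# The refined Chow lemma for a quasi-projective dense open
-/

set_option autoImplicit false
set_option maxHeartbeats 1000000

noncomputable section

universe u

open CategoryTheory CategoryTheory.Limits AlgebraicGeometry TopologicalSpace

namespace Groth.Agent.H22.QProj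

open Groth.Agent.Lib

/-- After a blow-up away from a quasi-projective dense open, a separated scheme of finite type is an open dense
subscheme of a projective one. -/
theorem exists_chow {X S : Scheme.{u}} [CompactSpace S] [QuasiSeparatedSpace S]
    (f : X ⟶ S) [IsSeparated f] [QuasiCompact f] [LocallyOfFiniteType f]
    (U : X.Opens) (hUd : Dense (U : Set X)) (hq : RelProj.IsQuasiProjective (U.ι ≫ f)) :
    ∃ (𝓘 : X.IdealSheafData) (X' P : Scheme.{u}) (q : X' ⟶ X) (j : X' ⟶ P) (g : P ⟶ S),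
      BlowUp.IsBlowUp q 𝓘 ∧ BlowUp.IsAdmissibleFor U 𝓘 ∧ RelProj.IsProjective g ∧
      IsOpenImmersion j ∧ IsDominant j ∧ j ≫ g = q ≫ f := by
  obtain ⟨P, i, p, hi, hiq, hid, hp, hip⟩ := exists_projective_compactification (U.ι ≫ f) hq
  haveI := hi
  haveI := hiq
  haveI := hid
  haveI := HProj.Proper.isProper_of_isProjective hp
  haveI : IsDominant i := inferInstance
  haveI := hq.2.1
  obtain ⟨Xc, qc, hqs, _, _, I₁, I₂, X₁', X₂', b₁, b₂, o₁, o₂, u₁, u₂, hb₁, hI₁, hb₂, hI₂, ho₁, ho₂,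
      hoq₁, hoq₂, hu₁, hu₂, huo, hcov⟩ :=
    StrictTransform.exists_common_target (U.ι ≫ f) f p U.ι i rfl hip
  haveI := ho₁
  haveI := ho₂
  haveI := hqs
  have hR : U.ι.opensRange = U := Scheme.Opens.opensRange_ι U
  haveI : CompactSpace P := QuasiCompact.compactSpace_of_compactSpace p
  haveI : QuasiSeparatedSpace P := quasiSeparatedSpace_of_quasiSeparated p
  haveI : IsProper b₂ := BlowUpExists.isProper_of_isBlowUp hb₂ hI₂.1
  have hd₁ : DenseRange u₁ := LocBlow.denseRange_lift hb₁ U.ι u₁ hu₁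
    (by rw [DenseRange, Scheme.Opens.range_ι]; exact hUd) fun t =>
      Set.disjoint_right.1 hI₁.2 ⟨t, rfl⟩
  have hd₂ : DenseRange u₂ := LocBlow.denseRange_lift hb₂ i u₂ hu₂ i.denseRange fun t =>
      Set.disjoint_right.1 hI₂.2 ⟨t, rfl⟩
  haveI : IsProper (o₂ ≫ qc) := by rw [hoq₂]; infer_instance
  haveI : IsProper o₂ := IsProper.of_comp o₂ qc
  have hcl : IsClosed (Set.range o₂) := o₂.isClosedMap.isClosed_range
  haveI : Surjective o₂ := by
    refine ⟨fun z => ?_⟩
    rcases hcov.ge (Set.mem_univ z) with hz | hz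
    · obtain ⟨x, rfl⟩ := hz
      have h1 : Set.range (fun x => o₁ x) ⊆ Set.range o₂ := by
        rw [← Set.image_univ, ← hd₁.closure_eq]
        refine (image_closure_subset_closure_image o₁.continuous).trans (closure_minimal ?_ hcl)
        rintro _ ⟨_, ⟨t, rfl⟩, rfl⟩
        refine ⟨u₂ t, ?_⟩
        rw [← Scheme.Hom.comp_apply, ← huo, Scheme.Hom.comp_apply]
      exact h1 ⟨x, rfl⟩
    · exact hz
  haveI : IsIso o₂ := (isIso_iff_isOpenImmersion_and_surjective o₂).2 ⟨inferInstance, inferInstance⟩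
  refine ⟨I₁, X₁', X₂', b₁, o₁ ≫ inv o₂, b₂ ≫ p, hb₁, hR ▸ hI₁,
    PProj.isProjective_comp (LocBlow.isProjective_of_isBlowUp hb₂ hI₂.1) hp, inferInstance, ⟨?_⟩, ?_⟩
  · refine Dense.mono ?_ hd₂
    rintro _ ⟨t, rfl⟩
    refine ⟨u₁ t, ?_⟩
    rw [← Scheme.Hom.comp_apply, ← Category.assoc, huo, Category.assoc, IsIso.hom_inv_id, Category.comp_id]
  · rw [Category.assoc, ← hoq₂, IsIso.inv_hom_id_assoc, hoq₁]

end Groth.Agent.H22.QProj
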