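import Groth.Agent.H22.StrictTransform.CommonTarget
import Groth.Agent.H22.ExtendFree.Glue
import Groth.Agent.Lib.TensorMod.LocFree
import Mathlib.AlgebraicGeometry.Morphisms.Immersion

/-!
# A common proper quasi-domination of two schemes containing the same open
-/

set_option autoImplicit false
set_option maxHeartbeats 1000000

noncomputable section

universe u

open CategoryTheory CategoryTheory.Limits AlgebraicGeometry TopologicalSpace

namespace Groth.Agent.H22.QProj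

open Groth.Agent.Lib

/-- The graph of a proper morphism into a separated product has closed image. -/
theorem isClosed_range_lift {W X Y S : Scheme.{u}} {q : X ⟶ S} {g : Y ⟶ S} [IsSeparated q]
    (i : W ⟶ X) (p : W ⟶ Y) [IsProper p] (h : i ≫ q = p ≫ g) :
    IsClosed (Set.range (fun x => pullback.lift i p h x)) := by
  haveI : IsProper (pullback.lift i p h ≫ pullback.snd q g) := by rw [pullback.lift_snd]; infer_instance
  haveI : IsProper (pullback.lift i p h) := IsProper.of_comp _ (pullback.snd q g)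
  exact (pullback.lift i p h).isClosedMap.isClosed_range

theorem isSchemeTheoreticallyDominant_of_factor {U W X : Scheme.{u}} (l : U ⟶ W) (w : W ⟶ X) (k : U ⟶ X)
    [IsSchemeTheoreticallyDominant k] (h : l ≫ w = k) : IsSchemeTheoreticallyDominant w :=
  ⟨le_bot_iff.1 ((Scheme.Hom.le_ker_comp l w).trans (by rw [h, k.ker_eq_bot]))⟩

/-- Two schemes containing the same open have a common proper quasi-domination, covered by the two domains. -/
theorem exists_quasiDomination {S U X₁ X₂ : Scheme.{u}} [CompactSpace S] [QuasiSeparatedSpace S]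
    (g₁ : X₁ ⟶ S) (g₂ : X₂ ⟶ S)
    [IsSeparated g₁] [QuasiCompact g₁] [LocallyOfFiniteType g₁]
    [IsSeparated g₂] [QuasiCompact g₂] [LocallyOfFiniteType g₂]
    (j₁ : U ⟶ X₁) (j₂ : U ⟶ X₂) [IsOpenImmersion j₁] [IsOpenImmersion j₂] [CompactSpace U]
    (h : j₁ ≫ g₁ = j₂ ≫ g₂) :
    ∃ (X : Scheme.{u}) (q : X ⟶ S) (j : U ⟶ X) (W₁ W₂ : X.Opens) (l₁ : U ⟶ (W₁ : Scheme.{u}))
      (l₂ : U ⟶ (W₂ : Scheme.{u})) (p₁ : (W₁ : Scheme.{u}) ⟶ X₁) (p₂ : (W₂ : Scheme.{u}) ⟶ X₂),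
      IsSeparated q ∧ QuasiCompact q ∧ LocallyOfFiniteType q ∧ IsOpenImmersion j ∧ QuasiCompact j ∧
      IsSchemeTheoreticallyDominant j ∧ j ≫ q = j₁ ≫ g₁ ∧ W₁ ⊔ W₂ = ⊤ ∧
      l₁ ≫ W₁.ι = j ∧ l₁ ≫ p₁ = j₁ ∧ IsProper p₁ ∧ W₁.ι ≫ q = p₁ ≫ g₁ ∧
      l₂ ≫ W₂.ι = j ∧ l₂ ≫ p₂ = j₂ ∧ IsProper p₂ ∧ W₂.ι ≫ q = p₂ ≫ g₂ := by
  haveI : QuasiCompact (j₁ ≫ g₁) := quasiCompact_of_compactSpace _
  haveI : CompactSpace X₁ := QuasiCompact.compactSpace_of_compactSpace g₁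
  haveI : CompactSpace X₂ := QuasiCompact.compactSpace_of_compactSpace g₂
  obtain ⟨Xc, qc, hqs, hqf, hqq, I₁, I₂, X₁', X₂', b₁, b₂, o₁, o₂, u₁, u₂, hb₁, hI₁, hb₂, hI₂, ho₁, ho₂,
      hoq₁, hoq₂, hu₁, hu₂, huo, hcov⟩ :=
    StrictTransform.exists_common_target (j₁ ≫ g₁) g₁ g₂ j₁ j₂ rfl h.symm
  haveI := hqs; haveI := hqf; haveI := hqq; haveI := ho₁; haveI := ho₂
  haveI : IsProper b₁ := BlowUpExists.isProper_of_isBlowUp hb₁ hI₁.1
  haveI : IsProper b₂ := BlowUpExists.isProper_of_isBlowUp hb₂ hI₂.1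
  haveI : QuasiSeparatedSpace Xc := quasiSeparatedSpace_of_quasiSeparated qc
  let k : U ⟶ Xc := u₁ ≫ o₁
  haveI : IsImmersion (u₁ ≫ b₁) := by rw [hu₁]; infer_instance
  haveI : IsImmersion u₁ := IsImmersion.of_comp u₁ b₁
  haveI : IsImmersion k := inferInstanceAs (IsImmersion (u₁ ≫ o₁))
  haveI : QuasiCompact k := quasiCompact_of_compactSpace k
  haveI hstd := StrictTransform.std_toImage k
  haveI : QuasiCompact k.toImage := inferInstance
  let q : k.image ⟶ S := k.imageι ≫ qc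
  have hjq : k.toImage ≫ q = j₁ ≫ g₁ := by
    simp only [q, Scheme.Hom.toImage_imageι_assoc, k, Category.assoc, hoq₁]
    rw [reassoc_of% hu₁]
  have key : ∀ {Y Y' : Scheme.{u}} (o : Y' ⟶ Xc) [IsOpenImmersion o] (b : Y' ⟶ Y) [IsProper b] (g : Y ⟶ S)
      (u : U ⟶ Y') (j : U ⟶ Y), u ≫ o = k → u ≫ b = j → o ≫ qc = b ≫ g →
      ∃ (l : U ⟶ ((k.imageι ⁻¹ᵁ o.opensRange : k.image.Opens) : Scheme.{u}))
        (p : ((k.imageι ⁻¹ᵁ o.opensRange : k.image.Opens) : Scheme.{u}) ⟶ Y),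
        l ≫ (k.imageι ⁻¹ᵁ o.opensRange).ι = k.toImage ∧ l ≫ p = j ∧ IsProper p ∧
        (k.imageι ⁻¹ᵁ o.opensRange).ι ≫ q = p ≫ g := by
    intro Y Y' o _ b _ g u j huo' hub hog
    let W := k.imageι ⁻¹ᵁ o.opensRange
    have hr : Set.range k.toImage ⊆ Set.range W.ι := by
      rw [Scheme.Opens.range_ι]
      rintro _ ⟨t, rfl⟩
      show k.imageι (k.toImage t) ∈ o.opensRange
      rw [← Scheme.Hom.comp_apply, Scheme.Hom.toImage_imageι, ← huo']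
      exact ⟨u t, rfl⟩
    refine ⟨IsOpenImmersion.lift W.ι k.toImage hr, (k.imageι ∣_ o.opensRange) ≫ o.isoOpensRange.inv ≫ b,
      IsOpenImmersion.lift_fac _ _ _, ?_, inferInstance, ?_⟩
    · have e : IsOpenImmersion.lift W.ι k.toImage hr ≫ (k.imageι ∣_ o.opensRange) ≫ o.isoOpensRange.inv = u := by
        rw [← cancel_mono o, Category.assoc, Category.assoc, o.isoOpensRange_inv_comp, morphismRestrict_ι,
          IsOpenImmersion.lift_fac_assoc, Scheme.Hom.toImage_imageι, huo']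
      rw [reassoc_of% e, hub]
    · simp only [q, Category.assoc]
      rw [← hog, o.isoOpensRange_inv_comp_assoc, morphismRestrict_ι_assoc]
  obtain ⟨l₁, p₁, h11, h12, h13, h14⟩ := key o₁ b₁ g₁ u₁ j₁ rfl hu₁ hoq₁
  obtain ⟨l₂, p₂, h21, h22, h23, h24⟩ := key o₂ b₂ g₂ u₂ j₂ huo.symm hu₂ hoq₂
  refine ⟨k.image, q, k.toImage, _, _, l₁, l₂, p₁, p₂, inferInstance, inferInstance, inferInstance,
    inferInstance, inferInstance, hstd, hjq, eq_top_iff.2 fun z _ => ?_, h11, h12, h13, h14, h21, h22, h23, h24⟩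
  rcases hcov.ge (Set.mem_univ (k.imageι z)) with hz | hz
  · exact Or.inl hz
  · exact Or.inr hz

/-- The common quasi-domination to which a locally free module extends. -/
theorem exists_quasiDomination_extending {S X₁ X₂ U : Scheme.{u}}
    [IsNoetherian S] (g₁ : X₁ ⟶ S) (g₂ : X₂ ⟶ S)
    [IsSeparated g₁] [QuasiCompact g₁] [LocallyOfFiniteType g₁]
    [IsSeparated g₂] [QuasiCompact g₂] [LocallyOfFiniteType g₂]
    (j₁ : U ⟶ X₁) (j₂ : U ⟶ X₂) [IsOpenImmersion j₁] [IsOpenImmersion j₂] (h : j₁ ≫ g₁ = j₂ ≫ g₂)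
    (E : U.Modules) (E₁ : X₁.Modules) (E₂ : X₂.Modules)
    (hE₁ : FlatMod.IsFinLocFree E₁) (hE₂ : FlatMod.IsFinLocFree E₂)
    (e₁ : (Scheme.Modules.pullback j₁).obj E₁ ≅ E) (e₂ : (Scheme.Modules.pullback j₂).obj E₂ ≅ E) :
    ∃ (X : Scheme.{u}) (p : X ⟶ S) (k : U ⟶ X) (E' : X.Modules),
      IsSeparated p ∧ QuasiCompact p ∧ LocallyOfFiniteType p ∧ IsOpenImmersion k ∧ QuasiCompact k ∧
      IsSchemeTheoreticallyDominant k ∧ k ≫ p = j₁ ≫ g₁ ∧ FlatMod.IsFinLocFree E' ∧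
      Nonempty ((Scheme.Modules.pullback k).obj E' ≅ E) ∧
      (∃ (W₁ : X.Opens) (φ₁ : (↑W₁ : Scheme.{u}) ⟶ X₁) (hφ₁ : W₁.ι ≫ p = φ₁ ≫ g₁) (l₁ : U ⟶ ↑W₁),
        IsSchemeTheoreticallyDominant W₁.ι ∧ IsProper φ₁ ∧ l₁ ≫ W₁.ι = k ∧ l₁ ≫ φ₁ = j₁ ∧
        IsClosed (Set.range (fun w => (Limits.pullback.lift W₁.ι φ₁ hφ₁) w))) ∧
      (∃ (W₂ : X.Opens) (φ₂ : (↑W₂ : Scheme.{u}) ⟶ X₂) (hφ₂ : W₂.ι ≫ p = φ₂ ≫ g₂) (l₂ : U ⟶ ↑W₂),
        IsSchemeTheoreticallyDominant W₂.ι ∧ IsProper φ₂ ∧ l₂ ≫ W₂.ι = k ∧ l₂ ≫ φ₂ = j₂ ∧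
        IsClosed (Set.range (fun w => (Limits.pullback.lift W₂.ι φ₂ hφ₂) w))) := by
  haveI : IsLocallyNoetherian X₁ := LocallyOfFiniteType.isLocallyNoetherian g₁
  haveI : CompactSpace X₁ := QuasiCompact.compactSpace_of_compactSpace g₁
  haveI : IsNoetherian X₁ := {}
  haveI : CompactSpace U :=
    ⟨j₁.isOpenEmbedding.isInducing.isCompact_iff.2 (NoetherianSpace.isCompact _)⟩
  obtain ⟨X, q, j, W₁, W₂, l₁, l₂, p₁, p₂, hq, hqq, hqf, hj, hjq, hjd, hjq', hW, h11, h12, h13, h14,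
    h21, h22, h23, h24⟩ := exists_quasiDomination g₁ g₂ j₁ j₂ h
  haveI := hq; haveI := hqq; haveI := hqf; haveI := hj; haveI := hjq; haveI := hjd; haveI := h13; haveI := h23
  haveI : IsLocallyNoetherian X := LocallyOfFiniteType.isLocallyNoetherian q
  haveI : CompactSpace X := QuasiCompact.compactSpace_of_compactSpace q
  haveI : IsNoetherian X := {}
  let U' : X.Opens := j.opensRange
  let e := j.isoOpensRange
  have hle₁ : U' ≤ W₁ := by
    rintro _ ⟨t, rfl⟩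
    rw [← h11, Scheme.Hom.comp_apply]
    exact (l₁ t).2
  have hle₂ : U' ≤ W₂ := by
    rintro _ ⟨t, rfl⟩
    rw [← h21, Scheme.Hom.comp_apply]
    exact (l₂ t).2
  have he₁ : e.inv ≫ l₁ = X.homOfLE hle₁ := by
    rw [← cancel_mono W₁.ι, Category.assoc, h11, Scheme.homOfLE_ι]
    exact j.isoOpensRange_inv_comp
  have he₂ : e.inv ≫ l₂ = X.homOfLE hle₂ := by
    rw [← cancel_mono W₂.ι, Category.assoc, h21, Scheme.homOfLE_ι]
    exact j.isoOpensRange_inv_comp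
  let M₁ := (Scheme.Modules.pullback p₁).obj E₁
  let M₂ := (Scheme.Modules.pullback p₂).obj E₂
  let iso : ∀ {W : X.Opens} {Y : Scheme.{u}} (hle : U' ≤ W) (l : U ⟶ (W : Scheme.{u}))
      (p : (W : Scheme.{u}) ⟶ Y) (i : U ⟶ Y) (M : Y.Modules),
      e.inv ≫ l = X.homOfLE hle → l ≫ p = i →
      ((Scheme.Modules.pullback (X.homOfLE hle)).obj ((Scheme.Modules.pullback p).obj M) ≅
        (Scheme.Modules.pullback e.inv).obj ((Scheme.Modules.pullback i).obj M)) := fun hle l p i M h1 h2 =>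
    (Scheme.Modules.pullbackCongr h1.symm).app _ ≪≫ ((Scheme.Modules.pullbackComp e.inv l).app _).symm ≪≫
      (Scheme.Modules.pullback e.inv).mapIso
        ((Scheme.Modules.pullbackComp l p).app M ≪≫ (Scheme.Modules.pullbackCongr h2).app M)
  have hdense : Dense (U' : Set X) := by
    haveI : IsDominant j := inferInstance
    exact j.denseRange
  obtain ⟨X', π, E', hπ, hπi, hπd, hE', ⟨a⟩⟩ := ExtendFree.exists_modification_extending U' W₁ W₂ hle₁ hle₂ hW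
    hdense M₁ M₂ (TensorMod.LocFree.isFinLocFree_pullback _ hE₁) (TensorMod.LocFree.isFinLocFree_pullback _ hE₂)
    (iso hle₁ l₁ p₁ j₁ E₁ he₁ h12 ≪≫
      (Scheme.Modules.pullback e.inv).mapIso (e₁ ≪≫ e₂.symm) ≪≫ (iso hle₂ l₂ p₂ j₂ E₂ he₂ h22).symm)
  haveI := hπ; haveI := hπi; haveI := hπd
  let k : U ⟶ X' := e.hom ≫ inv (π ∣_ U') ≫ (π ⁻¹ᵁ U').ι
  have hkπ : k ≫ π = j := by
    simp only [k, Category.assoc]
    rw [← morphismRestrict_ι, IsIso.inv_hom_id_assoc]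
    exact j.isoOpensRange_hom_ι
  haveI : IsLocallyNoetherian X' := LocallyOfFiniteType.isLocallyNoetherian π
  haveI : CompactSpace X' := QuasiCompact.compactSpace_of_compactSpace π
  haveI : IsNoetherian X' := {}
  haveI hkd : IsSchemeTheoreticallyDominant k := inferInstanceAs
    (IsSchemeTheoreticallyDominant (e.hom ≫ inv (π ∣_ U') ≫ (π ⁻¹ᵁ U').ι))
  have key : ∀ {W : X.Opens} {Y : Scheme.{u}} {g : Y ⟶ S} (l : U ⟶ (W : Scheme.{u})) (p : (W : Scheme.{u}) ⟶ Y)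
      (i : U ⟶ Y) [IsProper p], l ≫ W.ι = j → l ≫ p = i → W.ι ≫ q = p ≫ g →
      ∃ (W' : X'.Opens) (φ : (↑W' : Scheme.{u}) ⟶ Y) (hφ : W'.ι ≫ π ≫ q = φ ≫ g) (l' : U ⟶ ↑W'),
        IsSchemeTheoreticallyDominant W'.ι ∧ IsProper φ ∧ l' ≫ W'.ι = k ∧ l' ≫ φ = i ∧
        IsClosed (Set.range (fun w => (Limits.pullback.lift W'.ι φ hφ) w)) := by
    intro W Y g l p i _ hlW hlp hWq
    have hr : Set.range k ⊆ Set.range (π ⁻¹ᵁ W).ι := by
      rw [Scheme.Opens.range_ι]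
      rintro _ ⟨t, rfl⟩
      show π (k t) ∈ W
      rw [← Scheme.Hom.comp_apply, hkπ, ← hlW, Scheme.Hom.comp_apply]
      exact (l t).2
    let l' := IsOpenImmersion.lift (π ⁻¹ᵁ W).ι k hr
    have hl' : l' ≫ (π ⁻¹ᵁ W).ι = k := IsOpenImmersion.lift_fac _ _ _
    have hφ : (π ⁻¹ᵁ W).ι ≫ π ≫ q = ((π ∣_ W) ≫ p) ≫ g := by
      rw [Category.assoc, ← hWq, morphismRestrict_ι_assoc]
    refine ⟨π ⁻¹ᵁ W, (π ∣_ W) ≫ p, hφ, l', isSchemeTheoreticallyDominant_of_factor l' _ k hl', inferInstance,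
      hl', ?_, isClosed_range_lift _ _ hφ⟩
    have : l' ≫ (π ∣_ W) = l := by
      rw [← cancel_mono W.ι, Category.assoc, morphismRestrict_ι, reassoc_of% hl', hkπ, hlW]
    rw [reassoc_of% this, hlp]
  refine ⟨X', π ≫ q, k, E', inferInstance, inferInstance, inferInstance, inferInstance, quasiCompact_of_compactSpace k, hkd,
    by rw [reassoc_of% hkπ, hjq'], hE', ⟨?_⟩, key l₁ p₁ j₁ h11 h12 h14, key l₂ p₂ j₂ h21 h22 h24⟩
  refine (Scheme.Modules.pullbackComp (e.hom ≫ inv (π ∣_ U')) (π ⁻¹ᵁ U').ι).symm.app E' ≪≫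
    (Scheme.Modules.pullback (e.hom ≫ inv (π ∣_ U'))).mapIso a ≪≫
    (Scheme.Modules.pullbackComp _ _).app M₁ ≪≫ (Scheme.Modules.pullbackCongr ?_).app M₁ ≪≫
    (Scheme.Modules.pullbackComp l₁ p₁).app E₁ ≪≫ (Scheme.Modules.pullbackCongr h12).app E₁ ≪≫ e₁
  rw [← he₁]
  simp

end Groth.Agent.H22.QProj
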