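import Groth.Agent.H22.QProj.Grade

/-
Adapted from `Groth/Agent/Lib/PProj/Gen.lean`: only some of the coordinates are required to have affine loci on which
the ratios generate ("good" coordinates), as happens for morphisms that are quasi-projective but not proper.
-/

set_option autoImplicit false
set_option maxHeartbeats 1000000

noncomputable section

universe u

open CategoryTheory AlgebraicGeometry TopologicalSpace MvPolynomial Opposite

namespace Groth.Agent.H22.QProj

open Groth.Agent.Lib Groth.Agent.Lib.PProj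

variable {X S : Scheme.{u}} {f : X ⟶ S}

theorem eval₂_mem {R A : Type*} [CommRing R] [CommRing A] {n : ℕ} (g : R →+* A) (v : Fin n → A) (T : Subring A)
    (hg : ∀ r, g r ∈ T) (hv : ∀ i, v i ∈ T) (p : MvPolynomial (Fin n) R) : eval₂Hom g v p ∈ T := by
  induction p using MvPolynomial.induction_on with
  | C r => simpa using hg r
  | add p q hp hq => rw [map_add]; exact add_mem hp hq
  | mul_X p j hp => rw [map_mul, eval₂Hom_X']; exact mul_mem hp (hv j)

theorem mul_aux {R : Type*} [CommRing R] {a b c d : R} (h : a * c = 1) : d * b = a * b * (c * d) := by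
  linear_combination -(d * b) * h

namespace PData

variable (D : PData f)

/-- A system over an affine open given by generating sections of degree one. -/
structure GSys (U : S.Opens) where
  /-- the system -/
  T : Sys f D.P U
  /-- the generators -/
  τ : Fin T.n → D.sect U
  τ_mem : ∀ i, τ i ∈ D.deg U 1
  c_eq : ∀ i a, T.c i a = PowerSeries.coeff 1 ((τ i).1 a)
  surj : Function.Surjective (eval₂Hom (D.strS U) τ)

theorem ev_eq_eval₂ {U : S.Opens} {n : ℕ} (τ : Fin n → D.sect U) (hτ : ∀ i, τ i ∈ D.deg U 1)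
    (c : Fin n → Vec f D.P U) (hc : ∀ i a, c i a = PowerSeries.coeff 1 ((τ i).1 a))
    (p : MvPolynomial (Fin n) Γ(S, U)) : ev U c p = (eval₂Hom (D.strS U) τ p).1 := by
  have : ev U c = (D.sect U).subtype.comp (eval₂Hom (D.strS U) τ) := by
    apply MvPolynomial.ringHom_ext
    · intro r; simp [ev_C]
    · intro i
      funext a
      ext e
      simp only [ev_apply, eval₂Hom_X', RingHom.comp_apply, Subring.coe_subtype, hc i a]
      rw [← pow_one PowerSeries.X, PowerSeries.coeff_X_pow_mul']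
      rcases Nat.lt_trichotomy e 1 with he | rfl | he
      · rw [if_neg (by omega), hτ i a e (by omega)]
      · rw [if_pos le_rfl, Nat.sub_self, PowerSeries.coeff_zero_C]
      · rw [if_pos (by omega), PowerSeries.coeff_C, if_neg (by omega), hτ i a e (by omega)]
  exact DFunLike.congr_fun this p

theorem rX_evalAt {U : S.Opens} {n : ℕ} (c : Fin n → Vec f D.P U) (L : X.Opens) (hL : L ≤ f ⁻¹ᵁ U) (a : D.I)
    (u : Fin n → Γ(X, L)) (t : Γ(X, L ⊓ D.P a))
    (rel : ∀ i, rX (le_inf inf_le_right (inf_le_left.trans hL)) (c i a) = t * rX (inf_le_left : L ⊓ D.P a ≤ L) (u i))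
    {q : MvPolynomial (Fin n) Γ(S, U)} {d : ℕ} (hq : q.IsHomogeneous d) :
    rX (le_inf inf_le_right (inf_le_left.trans hL)) (evalAt U c a q) =
      t ^ d * rX (inf_le_left : L ⊓ D.P a ≤ L) (eval₂Hom (f.appLE U L hL).hom u q) := by
  have hle : L ⊓ D.P a ≤ piece f D.P a U := le_inf inf_le_right (inf_le_left.trans hL)
  let g : Γ(S, U) →+* Γ(X, L ⊓ D.P a) := (rX hle).comp (base f D.P a U)
  have h1 : (rX hle).comp (evalAt U c a) =
      eval₂Hom g fun i => t * rX (inf_le_left : L ⊓ D.P a ≤ L) (u i) := by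
    apply MvPolynomial.ringHom_ext
    · intro r; simp [evalAt, g]
    · intro k; simp [evalAt, rel k]
  have h2 : (rX (inf_le_left : L ⊓ D.P a ≤ L)).comp (eval₂Hom (f.appLE U L hL).hom u) =
      eval₂Hom g fun i => rX (inf_le_left : L ⊓ D.P a ≤ L) (u i) := by
    apply MvPolynomial.ringHom_ext
    · intro r
      simp only [RingHom.comp_apply, eval₂Hom_C, g, rX, base]
      rw [← CommRingCat.comp_apply, ← CommRingCat.comp_apply, Scheme.Hom.appLE_map, Scheme.Hom.appLE_map]
    · intro k; simp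
  refine (DFunLike.congr_fun h1 q).trans ?_
  rw [ProjSpace.Charts.eval₂Hom_mul_of_isHomogeneous _ _ _ hq]
  exact congrArg (_ * ·) (DFunLike.congr_fun h2 q).symm

theorem exists_lifts {U : S.Opens} (hU : IsAffineOpen U) :
    ∃ (M : ℕ) (g : Fin M → Γ(S, U)) (β : Fin M → D.J) (g' : ∀ k, Γ(S, D.U (β k)))
      (hle : ∀ k, S.basicOpen (g' k) ≤ U) (N : ℕ) (τ₀ : ∀ k, Fin (D.sys (β k)).n → D.sect U),
      (∀ k, S.basicOpen (g k) = S.basicOpen (g' k)) ∧ U ≤ ⨆ k, S.basicOpen (g k) ∧
      (∀ k l, τ₀ k l ∈ D.deg U 1) ∧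
      ∀ k l, D.sres (hle k) (τ₀ k l) =
        D.strS _ (rX (hle k) (g k)) ^ N * D.evB (β k) (g' k) (MvPolynomial.X l) := by
  classical
  obtain ⟨M, g, β, g', he, -, hcov⟩ := D.exists_adapted hU 0
  have hle : ∀ k, S.basicOpen (g' k) ≤ U := fun k => (he k).ge.trans (S.basicOpen_le _)
  have key : ∀ q : Σ k, Fin (D.sys (β k)).n, ∃ (m : ℕ) (s : D.sect U), s ∈ D.deg U 1 ∧
      D.sres (hle q.1) s = D.strS _ (rX (hle q.1) (g q.1)) ^ m * D.evB (β q.1) (g' q.1) (MvPolynomial.X q.2) := by
    rintro ⟨k, l⟩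
    obtain ⟨m, s, hs⟩ := D.exists_res_eq hU (g k) (D.sres (he k).le (D.evB (β k) (g' k) (MvPolynomial.X l)))
    refine ⟨m, D.comp 1 s, D.comp_mem 1 s, ?_⟩
    have e := congrArg (D.sres (he k).ge) hs
    rw [sres_sres, map_mul, map_pow, sres_sres, sres_sres, sres_self, sres_strS] at e
    have hX : D.evB (β k) (g' k) (MvPolynomial.X l) ∈ D.deg (S.basicOpen (g' k)) 1 := fun a e he => by
      rw [evB_coe, ev_of_isHomogeneous _ _ (isHomogeneous_X _ l), PowerSeries.coeff_X_pow_mul']
      split_ifs with h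
      · rw [PowerSeries.coeff_C, if_neg (by omega)]
      · rfl
    rw [← comp_sres, e, ← map_pow, comp_strS_mul, D.comp_eq hX, map_pow]
  choose m s hs1 hs2 using key
  let N := Finset.univ.sup m
  refine ⟨M, g, β, g', hle, N, fun k l => D.strS U (g k) ^ (N - m ⟨k, l⟩) * s ⟨k, l⟩, he, hcov,
    fun k l => ?_, fun k l => ?_⟩
  · beta_reduce
    rw [← map_pow]
    simpa using SetLike.mul_mem_graded (A := D.deg U) (D.strS_mem_deg U (g k ^ (N - m ⟨k, l⟩))) (hs1 ⟨k, l⟩)
  · have h := hs2 ⟨k, l⟩
    dsimp only at h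
    rw [map_mul, map_pow, h, sres_strS, ← mul_assoc, ← pow_add,
      Nat.sub_add_cancel (Finset.le_sup (f := m) (Finset.mem_univ _))]

theorem nonempty_gsys {U : S.Opens} (hU : IsAffineOpen U) : Nonempty (D.GSys U) := by
  classical
  obtain ⟨M, g, β, g', hle, N, τ₀, he, hcov, hτ₀, hres⟩ := D.exists_lifts hU
  let idx := Σ k, Fin (D.sys (β k)).n
  let n := Fintype.card idx
  let E : Fin n ≃ idx := (Fintype.equivFin idx).symm
  let τ : Fin n → D.sect U := fun i => D.strS U (g (E i).1) * τ₀ (E i).1 (E i).2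
  have hτ : ∀ i, τ i ∈ D.deg U 1 := fun i => by
    simpa using SetLike.mul_mem_graded (A := D.deg U) (D.strS_mem_deg U _) (hτ₀ (E i).1 (E i).2)
  let c : Fin n → Vec f D.P U := fun i a => PowerSeries.coeff 1 ((τ i).1 a)
  let evU := eval₂Hom (D.strS U) τ
  let G : ∀ k, Γ(S, S.basicOpen (g' k)) := fun k => rX (hle k) (g k)
  have hG : ∀ k, IsUnit (G k) := fun k => isUnit_rX _ (he k).ge
  have hτres : ∀ i, D.sres (hle (E i).1) (τ i) =
      D.strS _ (G (E i).1) ^ (N + 1) * D.evB (β (E i).1) (g' (E i).1) (MvPolynomial.X (E i).2) := fun i => by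
    rw [map_mul, sres_strS, hres, ← mul_assoc, ← pow_succ']
  -- surjectivity
  have hsurj : Function.Surjective evU := fun s => AddMonoidHom.mem_range.1 <|
    D.mem_of_local hU evU.toAddMonoidHom.range (fun b t ht => by
      obtain ⟨p, rfl⟩ := ht
      refine ⟨C b * p, ?_⟩
      change evU (C b * p) = D.strS U b * evU p
      rw [map_mul]; simp [evU]) (s := s) fun x hx => by
    obtain ⟨k, hk⟩ := Opens.mem_iSup.1 (hcov hx)
    refine ⟨g k, hk, ?_⟩
    have key : ∀ q, ∃ (m : ℕ) (p : MvPolynomial (Fin n) Γ(S, U)),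
        D.sres (hle k) (evU p) = D.strS _ (G k) ^ m * D.evB (β k) (g' k) q := fun q => by
      induction q using MvPolynomial.induction_on with
      | C r =>
        let := (rX (hle k)).toAlgebra
        haveI : IsLocalization.Away (g k) Γ(S, S.basicOpen (g' k)) :=
          hU.isLocalization_of_eq_basicOpen _ (homOfLE (hle k)) (he k).symm
        obtain ⟨m, b, hb⟩ := IsLocalization.Away.surj (g k) r
        refine ⟨m, C b, ?_⟩
        simp only [evU, eval₂Hom_C, sres_strS, evB_C, ← map_pow, ← map_mul]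
        exact congrArg (D.strS _) (hb.symm.trans (by simp [G, mul_comm]; rfl))
      | add p q hp hq =>
        obtain ⟨m, b, hb⟩ := hp
        obtain ⟨m', b', hb'⟩ := hq
        refine ⟨m + m', C (g k ^ m') * b + C (g k ^ m) * b', ?_⟩
        rw [map_add, map_add, map_mul, map_mul, map_mul, map_mul, hb, hb', map_add]
        simp only [evU, eval₂Hom_C, map_pow, sres_strS, G, pow_add]
        ring
      | mul_X p l hp =>
        obtain ⟨m, b, hb⟩ := hp
        refine ⟨m + (N + 1), b * MvPolynomial.X (E.symm ⟨k, l⟩), ?_⟩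
        have e1 : ∀ q' : idx, E (E.symm q') = q' := E.apply_symm_apply
        have e2 : D.sres (hle k) (τ (E.symm ⟨k, l⟩)) =
            D.strS _ (G k) ^ (N + 1) * D.evB (β k) (g' k) (MvPolynomial.X l) := by
          simp only [τ]
          rw [e1, map_mul, sres_strS, hres, ← mul_assoc, ← pow_succ']
        rw [map_mul, map_mul, map_mul, hb, show evU (MvPolynomial.X (E.symm ⟨k, l⟩)) = τ (E.symm ⟨k, l⟩) from
          eval₂Hom_X' _ _ _, e2, pow_add]
        ring
    obtain ⟨q, hq⟩ := D.evB_surjective (β k) (g' k) (D.sres (hle k) s)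
    obtain ⟨m, p, hp⟩ := key q
    obtain ⟨m', hm'⟩ := D.exists_pow_kill hU (g k) (D.strS U (g k) ^ m * s - evU p) (by
      have e : D.sres (hle k) (D.strS U (g k) ^ m * s - evU p) = 0 := by
        rw [map_sub, map_mul, map_pow, sres_strS, hp, hq, sub_self]
      have e' := congrArg (D.sres (he k).le) e
      rwa [sres_sres, map_zero] at e')
    refine ⟨m' + m, AddMonoidHom.mem_range.2 ⟨C (g k) ^ m' * p, ?_⟩⟩
    rw [mul_sub, sub_eq_zero] at hm'
    change evU (C (g k) ^ m' * p) = _
    rw [map_mul, map_pow, show evU (C (g k)) = D.strS U (g k) from eval₂Hom_C _ _ _, ← hm', ← mul_assoc, ← pow_add]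
  -- the loci
  let TB : ∀ k, Sys f D.P (S.basicOpen (g' k)) := fun k => (D.sys (β k)).basic (D.affine (β k)) (g' k)
  have hTB : ∀ k l, D.evB (β k) (g' k) (MvPolynomial.X l) = ⟨ev _ (TB k).c (MvPolynomial.X l),
      D.isLocal_ev (S.basicOpen_le (g' k)) (MvPolynomial.X l)⟩ := fun k l => rfl
  let L : Fin n → X.Opens := fun i => (TB (E i).1).L (E i).2
  have hLle : ∀ i, L i ≤ f ⁻¹ᵁ U := fun i => ((TB (E i).1).L_le _).trans (f.preimage_mono (hle _))
  have hcres : ∀ i a, rX (piece_mono a (hle (E i).1)) (c i a) =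
      base f D.P a _ (G (E i).1) ^ (N + 1) * (TB (E i).1).c (E i).2 a := fun i a => by
    have e := congrArg (fun z => PowerSeries.coeff 1 (z.1 a)) (hτres i)
    simp only [sres_coe, coeff_ares] at e
    refine e.trans ?_
    rw [← map_pow]
    refine (coeff_strA_mul _ _ _ _).trans ?_
    rw [map_pow]
    refine congrArg (_ * ·) ?_
    rw [evB_coe, ev_of_isHomogeneous _ _ (isHomogeneous_X _ _), PowerSeries.coeff_X_pow_mul', if_pos le_rfl,
      Nat.sub_self, PowerSeries.coeff_zero_C]
    simp only [evalAt, eval₂Hom_X']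
    rfl
  have hLinf : ∀ i a, L i ⊓ D.P a = X.basicOpen (c i a) := fun i a => by
    have hc0 : c i a = base f D.P a U (g (E i).1) * PowerSeries.coeff 1 ((τ₀ (E i).1 (E i).2).1 a) :=
      coeff_strA_mul _ _ _ _
    have hbo : X.basicOpen (c i a) ≤ piece f D.P a (S.basicOpen (g' (E i).1)) := by
      rw [hc0, Scheme.basicOpen_mul]
      refine le_inf ((inf_le_left.trans (X.basicOpen_le _)).trans inf_le_left) (inf_le_left.trans ?_)
      rw [show X.basicOpen (base f D.P a U (g (E i).1)) = _ from Scheme.basicOpen_appLE f _ _ _ _]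
      exact inf_le_right.trans (f.preimage_mono (he _).le)
    have h1 : X.basicOpen (rX (piece_mono a (hle (E i).1)) (c i a)) = X.basicOpen (c i a) := by
      rw [basicOpen_rX, inf_eq_right.2 hbo]
    rw [← h1, hcres, Scheme.basicOpen_mul, Scheme.basicOpen_of_isUnit _ (((hG _).map _).pow _),
      show L i ⊓ D.P a = X.basicOpen ((TB (E i).1).c (E i).2 a) from (TB (E i).1).L_inf _ a]
    exact (inf_eq_right.2 (X.basicOpen_le _)).symm
  -- the ratios
  have hu : ∀ i i', ∃ z : Γ(X, L i), ∀ a, rX (le_inf inf_le_right (inf_le_left.trans (hLle i))) (c i' a) =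
      rX (inf_le_left : L i ⊓ D.P a ≤ L i) z * rX (le_inf inf_le_right (inf_le_left.trans (hLle i))) (c i a) := by
    intro i i'
    obtain ⟨q, hq⟩ := D.evB_surjective (β (E i).1) (g' (E i).1) (D.sres (hle (E i).1) (τ i'))
    obtain ⟨v, hv⟩ := (hG (E i).1).exists_right_inv
    refine ⟨(TB (E i).1).baseL (E i).2 v ^ (N + 1) * (TB (E i).1).evalL (E i).2 (homogeneousComponent 1 q),
      fun a => ?_⟩
    have e : evalAt _ (TB (E i).1).c a (homogeneousComponent 1 q) = rX (piece_mono a (hle (E i).1)) (c i' a) := by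
      have e1 := congrArg (fun z => PowerSeries.coeff 1 (z.1 a)) hq
      simp only [evB_coe, sres_coe, coeff_ares, coeff_ev] at e1
      exact e1
    have e2 := (TB (E i).1).evalAt_eq (E i).2 a (homogeneousComponent_isHomogeneous 1 q)
    refine ((rX_rX _ _ _).symm.trans ((congrArg (rX ((TB (E i).1).le_piece (E i).2 a)) e.symm).trans e2)).trans ?_
    have e3 : rX (le_inf inf_le_right (inf_le_left.trans (hLle i))) (c i a) =
        rX ((TB (E i).1).le_piece (E i).2 a) (base f D.P a _ (G (E i).1) ^ (N + 1) * (TB (E i).1).c (E i).2 a) := by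
      rw [← hcres, rX_rX]
    rw [e3, map_mul, map_mul, map_pow, map_pow, pow_one, (TB (E i).1).rX_baseL]
    have e4 : rX ((TB (E i).1).le_piece (E i).2 a) (base f D.P a _ v) *
        rX ((TB (E i).1).le_piece (E i).2 a) (base f D.P a _ (G (E i).1)) = 1 := by
      rw [← map_mul, ← map_mul, mul_comm v, hv, map_one, map_one]
    have e5 := congrArg (· ^ (N + 1)) e4
    simp only [mul_pow, one_pow] at e5
    exact mul_aux e5
  choose u hurel using hu
  let good : Fin n → Prop := fun i => (TB (E i).1).good (E i).2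
  have hcover : ∀ x ∈ f ⁻¹ᵁ U, ∃ i, good i ∧ x ∈ L i := fun x hx => by
    obtain ⟨k, hk⟩ := Opens.mem_iSup.1 (hcov hx)
    obtain ⟨l, hg, hl⟩ := (TB k).cover_good x ((he k).le hk)
    refine ⟨E.symm ⟨k, l⟩, ?_, ?_⟩
    · simp only [good]
      rw [E.apply_symm_apply]
      exact hg
    · simp only [L]
      rw [E.apply_symm_apply]
      exact hl
  have hgen : ∀ i, good i → Subring.closure (Set.range (f.appLE U (L i) (hLle i)) ∪ Set.range (u i)) = ⊤ := by
    intro i hi
    rw [eq_top_iff]
    intro z _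
    set R0 := Subring.closure (Set.range (f.appLE U (L i) (hLle i)) ∪ Set.range (u i)) with hR0
    have hb : ∀ r, f.appLE U (L i) (hLle i) r ∈ R0 := fun r => Subring.subset_closure (Or.inl ⟨r, rfl⟩)
    have huR : ∀ i', u i i' ∈ R0 := fun i' => Subring.subset_closure (Or.inr ⟨i', rfl⟩)
    let k := (E i).1
    let ca : ∀ a, Γ(X, L i ⊓ D.P a) := fun a => rX (le_inf inf_le_right (inf_le_left.trans (hLle i))) (c i a)
    have hca : ∀ a, IsUnit (ca a) := fun a => isUnit_rX _ (hLinf i a).le
    have hcan : ∀ w w' : Γ(X, L i), (∀ a, rX (inf_le_left : L i ⊓ D.P a ≤ L i) w * ca a =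
        rX (inf_le_left : L i ⊓ D.P a ≤ L i) w' * ca a) → w = w' := fun w w' h =>
      eq_of_cover (B := fun a => L i ⊓ D.P a) (fun a => inf_le_left)
        (fun x hx => by obtain ⟨a, ha⟩ := D.P_cover x; exact Opens.mem_iSup.2 ⟨a, hx, ha⟩)
        fun a => (hca a).mul_left_injective (h a)
    -- `g` is invertible in `R0`
    let gL := f.appLE U (L i) (hLle i) (g k)
    obtain ⟨p, hp⟩ := hsurj (τ₀ k (E i).2)
    let z₀ := eval₂Hom (f.appLE U (L i) (hLle i)).hom (u i) (homogeneousComponent 1 p)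
    have hz₀R : z₀ ∈ R0 := eval₂_mem _ _ _ hb huR _
    have hz₀ : gL * z₀ = 1 := hcan _ _ fun a => by
      have e := D.rX_evalAt c (L i) (hLle i) a (u i) (ca a) (fun i' => (hurel i i' a).trans (mul_comm _ _))
        (homogeneousComponent_isHomogeneous 1 p)
      have e1 : evalAt U c a (homogeneousComponent 1 p) = PowerSeries.coeff 1 ((τ₀ k (E i).2).1 a) := by
        rw [← coeff_ev, D.ev_eq_eval₂ τ hτ c (fun _ _ => rfl)]
        exact congrArg (fun z => PowerSeries.coeff 1 (z.1 a)) hp
      rw [e1, pow_one] at e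
      have hc0 : c i a = base f D.P a U (g k) * PowerSeries.coeff 1 ((τ₀ k (E i).2).1 a) :=
        coeff_strA_mul _ _ _ _
      have e6 : rX (inf_le_left : L i ⊓ D.P a ≤ L i) gL =
          rX (le_inf inf_le_right (inf_le_left.trans (hLle i))) (base f D.P a U (g k)) := by
        simp only [rX, base, gL]
        rw [← CommRingCat.comp_apply, ← CommRingCat.comp_apply, Scheme.Hom.appLE_map, Scheme.Hom.appLE_map]
      have e7 : ca a = rX (le_inf inf_le_right (inf_le_left.trans (hLle i))) (base f D.P a U (g k)) *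
          rX (le_inf inf_le_right (inf_le_left.trans (hLle i))) (PowerSeries.coeff 1 ((τ₀ k (E i).2).1 a)) := by
        simp only [ca]
        rw [hc0, map_mul]
      rw [map_one, one_mul, map_mul, e6, mul_assoc, mul_comm (rX _ z₀) (ca a), ← e]
      exact e7.symm
    have hbV : ∀ r, f.appLE (S.basicOpen (g' k)) (L i) ((TB k).L_le _) r ∈ R0 := fun r => by
      let := (rX (hle k)).toAlgebra
      haveI : IsLocalization.Away (g k) Γ(S, S.basicOpen (g' k)) :=
        hU.isLocalization_of_eq_basicOpen _ (homOfLE (hle k)) (he k).symm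
      obtain ⟨m, b, hb'⟩ := IsLocalization.Away.surj (g k) r
      have hcomp : ∀ b, f.appLE (S.basicOpen (g' k)) (L i) ((TB k).L_le _) (rX (hle k) b) =
          f.appLE U (L i) (hLle i) b := fun b => by
        simp only [rX]
        rw [← CommRingCat.comp_apply, Scheme.Hom.map_appLE]
      have e := congrArg (f.appLE (S.basicOpen (g' k)) (L i) ((TB k).L_le _)) hb'
      simp only [RingHom.algebraMap_toAlgebra, map_mul, map_pow, hcomp] at e
      have e' := congrArg (· * z₀ ^ m) e
      simp only [mul_assoc, ← mul_pow] at e'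
      rw [hz₀, one_pow, mul_one] at e'
      rw [e']
      exact mul_mem (hb b) (pow_mem hz₀R m)
    refine (Subring.closure_le.2 ?_) (((TB k).gen (E i).2 hi).ge (Subring.mem_top z))
    rintro _ (⟨r, rfl⟩ | ⟨l, rfl⟩)
    · exact hbV r
    · have : u i (E.symm ⟨k, l⟩) = (TB k).u (E i).2 l := hcan _ _ fun a => by
        have hle2 : L i ⊓ D.P a ≤ piece f D.P a U := le_inf inf_le_right (inf_le_left.trans (hLle i))
        have e1 : rX (piece_mono a (hle k)) (c (E.symm ⟨k, l⟩) a) =
            base f D.P a _ (G k) ^ (N + 1) * (TB k).c l a := by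
          have h := hcres (E.symm ⟨k, l⟩) a
          have hE : E (E.symm ⟨k, l⟩) = ⟨k, l⟩ := E.apply_symm_apply _
          revert h
          generalize hi' : E (E.symm ⟨k, l⟩) = q at hE ⊢
          subst hE
          exact id
        have e2 := congrArg (rX ((TB k).le_piece (E i).2 a)) e1
        have e3 := congrArg (rX ((TB k).le_piece (E i).2 a)) (hcres i a)
        rw [rX_rX, map_mul, (TB k).rel' (E i).2 l a] at e2
        rw [rX_rX, map_mul] at e3
        simp only [ca]
        rw [← hurel i (E.symm ⟨k, l⟩) a]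
        refine e2.trans ?_
        rw [e3]
        ring
      exact this ▸ huR _
  exact ⟨⟨⟨n, c, L, hLle, good, fun i hi => (TB (E i).1).affine _ hi, hcover, hLinf, u, fun i i' a => hurel i i' a, hgen⟩,
    τ, hτ, fun _ _ => rfl, hsurj⟩⟩

theorem isGenDegOne : D.alg.IsGenDegOne := by
  intro U hU
  obtain ⟨G⟩ := D.nonempty_gsys hU
  rw [eq_top_iff]
  intro s _
  obtain ⟨p, rfl⟩ := G.surj s
  exact eval₂_mem (D.strS U) G.τ _ (fun r => Subring.subset_closure (Or.inl (D.strS_mem_deg U r)))
    (fun i => Subring.subset_closure (Or.inr (G.τ_mem i))) p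

end PData

end Groth.Agent.H22.QProj
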