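import Groth.Agent.H22.QProj.Chart
import Groth.Agent.H81.RelProj.RelTilde
import Mathlib.AlgebraicGeometry.Morphisms.SchemeTheoreticallyDominant

/-!
# Coordinate data give a schematically dense open immersion into a projective scheme

For coordinate data `D` of `f : X ⟶ S` the charts glue to an open immersion of `X` into the relative `Proj` of
the algebra of `D`; it is quasi-compact and schematically dominant.
-/

set_option autoImplicit false
set_option maxHeartbeats 1000000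

noncomputable section

universe u

open CategoryTheory AlgebraicGeometry TopologicalSpace Opposite

namespace Groth.Agent.H22.QProj

open Groth.Agent.Lib Groth.Agent.Lib.PProj

/-- Sections over the range of an affine chart, read on a scheme mapping to it by an injective ring map. -/
theorem appLE_injective_of_toSpecHom {T P : Scheme.{u}} {R : Type u} [CommRing R] (φ : R →+* Γ(T, ⊤))
    (hφ : Function.Injective φ) (e : Spec (CommRingCat.of R) ⟶ P) [IsOpenImmersion e] (V : P.Opens)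
    (hV : e.opensRange = V) (hle : (⊤ : T.Opens) ≤ (Chow.PointMap.toSpecHom φ ≫ e) ⁻¹ᵁ V) :
    Function.Injective ((Chow.PointMap.toSpecHom φ ≫ e).appLE V ⊤ hle) := by
  subst hV
  have h1 : (⊤ : (Spec (CommRingCat.of R)).Opens) ≤ e ⁻¹ᵁ e.opensRange := (e.preimage_opensRange).ge
  have e0 : (Chow.PointMap.toSpecHom φ ≫ e).appLE e.opensRange ⊤ hle =
      e.appLE e.opensRange ⊤ h1 ≫ (Chow.PointMap.toSpecHom φ).appLE ⊤ ⊤ le_top :=
    (Scheme.Hom.appLE_comp_appLE (Chow.PointMap.toSpecHom φ) e e.opensRange ⊤ ⊤ h1 le_top).symm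
  rw [e0]
  have h2 : Function.Bijective (e.appLE e.opensRange ⊤ h1) := by
    haveI : IsIso (e.app e.opensRange) := e.isIso_app _ le_rfl
    rw [Scheme.Hom.appLE]
    haveI : IsIso ((Spec (CommRingCat.of R)).presheaf.map (homOfLE h1).op) := by
      have : IsIso (homOfLE h1) := ⟨⟨homOfLE le_top, rfl, rfl⟩⟩
      infer_instance
    exact ConcreteCategory.bijective_of_isIso _
  have h3 : (Chow.PointMap.toSpecHom φ).appLE ⊤ ⊤ le_top =
      (Scheme.ΓSpecIso (CommRingCat.of R)).hom ≫ CommRingCat.ofHom φ := by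
    rw [Scheme.Hom.appLE, Chow.PointMap.toSpecHom]
    simp [Scheme.ΓSpecIso_naturality]
  have h4 : Function.Injective ((Chow.PointMap.toSpecHom φ).appLE ⊤ ⊤ le_top) := fun a b hab => by
    rw [h3] at hab
    exact (ConcreteCategory.bijective_of_isIso (Scheme.ΓSpecIso (CommRingCat.of R)).hom).1 (hφ hab)
  exact fun a b hab => h2.1 (h4 hab)

variable {X S : Scheme.{u}} {f : X ⟶ S} (D : PData f)

namespace PData

/-- The map of `f⁻¹U` into a relative `Proj`. -/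
def toProj {P : Scheme.{u}} (p : P ⟶ S)
    (chart : ∀ (U : S.Opens) (hU : IsAffineOpen U), (((p ⁻¹ᵁ U : P.Opens) : Scheme.{u}) ≅ Proj (D.alg.deg U hU)))
    (U : S.affineOpens) : ((f ⁻¹ᵁ U.1 : X.Opens) : Scheme.{u}) ⟶ P :=
  D.chart U.1 U.2 ≫ RelProj.emb p chart U.1 U.2

theorem toProj_res {P : Scheme.{u}} {p : P ⟶ S}
    {chart : ∀ (U : S.Opens) (hU : IsAffineOpen U), (((p ⁻¹ᵁ U : P.Opens) : Scheme.{u}) ≅ Proj (D.alg.deg U hU))}
    (hP : RelProj.IsRelProj D.alg p chart) {U V : S.affineOpens} (h : H81.RelProj.RelTilde.Rel V U) :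
    X.homOfLE (f.preimage_mono h.le) ≫ D.toProj p chart U = D.toProj p chart V := by
  obtain ⟨U, hU⟩ := U
  obtain ⟨V, hV⟩ := V
  obtain ⟨r, rfl : S.basicOpen r = V⟩ := h
  simp only [toProj]
  rw [← Category.assoc, D.chart_res U hU r, Category.assoc]
  exact congrArg (_ ≫ ·) (RelProj.map_res_emb hP U hU r)

theorem exists_toProj {P : Scheme.{u}} {p : P ⟶ S}
    {chart : ∀ (U : S.Opens) (hU : IsAffineOpen U), (((p ⁻¹ᵁ U : P.Opens) : Scheme.{u}) ≅ Proj (D.alg.deg U hU))}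
    (hP : RelProj.IsRelProj D.alg p chart) :
    ∃ j : X ⟶ P, j ≫ p = f ∧ IsOpenImmersion j ∧
      ∀ U : S.affineOpens, (f ⁻¹ᵁ U.1).ι ≫ j = D.toProj p chart U := by
  classical
  let O : S.affineOpens → X.Opens := fun U => f ⁻¹ᵁ U.1
  have hO : TopologicalSpace.IsOpenCover O := by
    refine top_le_iff.1 fun x _ => ?_
    obtain ⟨U, hU, hxU, -⟩ := exists_isAffineOpen_mem_and_subset (X := S) (x := f x) (U := ⊤) trivial
    exact Opens.mem_iSup.2 ⟨⟨U, hU⟩, hxU⟩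
  let 𝒰 := X.openCoverOfIsOpenCover O hO
  have agree : ∀ U U' : S.affineOpens,
      X.homOfLE (inf_le_left : O U ⊓ O U' ≤ O U) ≫ D.toProj p chart U =
        X.homOfLE (inf_le_right : O U ⊓ O U' ≤ O U') ≫ D.toProj p chart U' := by
    intro U U'
    let J := {r : Γ(S, U.1) // ∃ r' : Γ(S, U'.1), S.basicOpen r = S.basicOpen r'}
    refine hom_ext_cover (ι := J) (B := fun r => f ⁻¹ᵁ S.basicOpen r.1) (fun r => ?_) (fun x hx => ?_) fun r => ?_
    · obtain ⟨r', hr'⟩ := r.2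
      exact le_inf (f.preimage_mono (S.basicOpen_le r.1)) (f.preimage_mono (hr'.le.trans (S.basicOpen_le r')))
    · obtain ⟨r, r', hrr, hr⟩ := exists_basicOpen_le_affine_inter U.2 U'.2 (f x) hx
      exact Opens.mem_iSup.2 ⟨⟨r, r', hrr⟩, hr⟩
    · obtain ⟨r, r', hrr⟩ := r
      let V : S.affineOpens := ⟨S.basicOpen r, U.2.basicOpen r⟩
      rw [Scheme.homOfLE_homOfLE_assoc, Scheme.homOfLE_homOfLE_assoc]
      exact (D.toProj_res hP (V := V) (U := U) ⟨r, rfl⟩).trans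
        (D.toProj_res hP (V := V) (U := U') ⟨r', hrr.symm⟩).symm
  have hglue : ∀ U U' : S.affineOpens, Limits.pullback.fst (𝒰.f U) (𝒰.f U') ≫ D.toProj p chart U =
      Limits.pullback.snd (𝒰.f U) (𝒰.f U') ≫ D.toProj p chart U' := by
    intro U U'
    let W : X.Opens := O U ⊓ O U'
    let c : Limits.pullback (𝒰.f U) (𝒰.f U') ⟶ X := Limits.pullback.fst (𝒰.f U) (𝒰.f U') ≫ (O U).ι
    have hc : c = Limits.pullback.snd (𝒰.f U) (𝒰.f U') ≫ (O U').ι := Limits.pullback.condition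
    have hr : Set.range c ⊆ Set.range W.ι := by
      rw [Scheme.Opens.range_ι]
      rintro _ ⟨y, rfl⟩
      refine ⟨(Limits.pullback.fst (𝒰.f U) (𝒰.f U') y).2, ?_⟩
      rw [hc]
      exact (Limits.pullback.snd (𝒰.f U) (𝒰.f U') y).2
    let w := IsOpenImmersion.lift W.ι c hr
    have hw : w ≫ W.ι = c := IsOpenImmersion.lift_fac _ _ hr
    have e1 : Limits.pullback.fst (𝒰.f U) (𝒰.f U') = w ≫ X.homOfLE (inf_le_left : W ≤ O U) :=
      (cancel_mono (O U).ι).1 (hw.symm.trans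
        ((congrArg (w ≫ ·) (X.homOfLE_ι _).symm).trans (Category.assoc _ _ _).symm))
    have e2 : Limits.pullback.snd (𝒰.f U) (𝒰.f U') = w ≫ X.homOfLE (inf_le_right : W ≤ O U') :=
      (cancel_mono (O U').ι).1 (hc.symm.trans (hw.symm.trans
        ((congrArg (w ≫ ·) (X.homOfLE_ι _).symm).trans (Category.assoc _ _ _).symm)))
    exact ((congrArg (· ≫ D.toProj p chart U) e1).trans (Category.assoc _ _ _)).trans
      ((congrArg (w ≫ ·) (agree U U')).trans
        (((congrArg (· ≫ D.toProj p chart U') e2).trans (Category.assoc _ _ _)).symm))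
  let j := 𝒰.glueMorphisms (fun U => D.toProj p chart U) hglue
  have hj : ∀ U : S.affineOpens, (f ⁻¹ᵁ U.1).ι ≫ j = D.toProj p chart U := fun U =>
    𝒰.ι_glueMorphisms _ hglue U
  have hjp : j ≫ p = f := by
    refine 𝒰.hom_ext _ _ fun U => ?_
    show (f ⁻¹ᵁ U.1).ι ≫ j ≫ p = (f ⁻¹ᵁ U.1).ι ≫ f
    rw [← Category.assoc, hj U, toProj, Category.assoc, RelProj.emb, Category.assoc,
      ← hP.chart_over U.1 U.2, Iso.inv_hom_id_assoc, D.chart_over U.1 U.2]
  refine ⟨j, hjp, ?_, hj⟩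
  haveI : ∀ U, IsOpenImmersion (𝒰.f U ≫ j) := fun U => by
    show IsOpenImmersion ((f ⁻¹ᵁ U.1).ι ≫ j)
    rw [hj U, toProj]
    infer_instance
  refine IsOpenImmersion.of_openCover_source j 𝒰 ?_ fun U => inferInstance
  intro y y' hyy
  obtain ⟨U, hy⟩ := Opens.mem_iSup.1 (hO.ge (Opens.mem_top y))
  have e : ∀ z, f z = p (j z) := fun z => by rw [← Scheme.Hom.comp_apply, hjp]
  have hy' : y' ∈ O U := by
    show f y' ∈ U.1
    rw [e, ← hyy, ← e]
    exact hy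
  have h3 : (𝒰.f U ≫ j) ⟨y, hy⟩ = (𝒰.f U ≫ j) ⟨y', hy'⟩ := hyy
  exact congrArg (𝒰.f U) ((𝒰.f U ≫ j).isOpenEmbedding.injective h3)

theorem isCompact_L {U : S.Opens} (T : Sys f D.P U) (i : Fin T.n) : IsCompact (T.L i : Set X) := by
  classical
  have key : ∀ k : {k // T.good k}, T.L i ⊓ T.L k.1 = X.basicOpen (T.u k.1 i) := fun k => by
    ext x
    obtain ⟨a, ha⟩ := D.P_cover x
    have h := congrArg X.basicOpen (T.rel' k.1 i a)
    rw [Scheme.basicOpen_mul, basicOpen_rX, basicOpen_rX, basicOpen_rX, ← T.L_inf, ← T.L_inf] at h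
    have h' := SetLike.ext_iff.1 h x
    have hb : x ∈ X.basicOpen (T.u k.1 i) → x ∈ T.L k.1 := fun hx => X.basicOpen_le _ hx
    simp only [Opens.mem_inf] at h'
    simp only [Opens.coe_inf, Set.mem_inter_iff, SetLike.mem_coe]
    tauto
  have : (T.L i : Set X) = ⋃ k : {k // T.good k}, (X.basicOpen (T.u k.1 i) : Set X) := by
    ext x
    simp only [Set.mem_iUnion, SetLike.mem_coe]
    refine ⟨fun hx => ?_, fun ⟨k, hk⟩ => ((key k).ge hk).1⟩
    obtain ⟨k, hk, hxk⟩ := T.cover_good x (T.L_le i hx)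
    exact ⟨⟨k, hk⟩, (key _).le ⟨hx, hxk⟩⟩
  rw [this]
  exact isCompact_iUnion fun k => ((T.affine k.1 k.2).basicOpen _).isCompact

/-- The standard affine opens of a relative `Proj` of the algebra of `D`, as morphisms. -/
def eMap {P : Scheme.{u}} (p : P ⟶ S)
    (chart : ∀ (U : S.Opens) (hU : IsAffineOpen U), (((p ⁻¹ᵁ U : P.Opens) : Scheme.{u}) ≅ Proj (D.alg.deg U hU)))
    (U : S.affineOpens) (i : Fin (D.gs U.1 U.2).T.n) :
    Spec (CommRingCat.of (HomogeneousLocalization.Away (D.degA U.1 U.2) ((D.gs U.1 U.2).τ i))) ⟶ P :=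
  Proj.awayι (D.degA U.1 U.2) _ ((D.gs U.1 U.2).τ_memA U.2 i) one_pos ≫ RelProj.emb p chart U.1 U.2

instance isOpenImmersion_eMap {P : Scheme.{u}} (p : P ⟶ S)
    (chart : ∀ (U : S.Opens) (hU : IsAffineOpen U), (((p ⁻¹ᵁ U : P.Opens) : Scheme.{u}) ≅ Proj (D.alg.deg U hU)))
    (U : S.affineOpens) (i : Fin (D.gs U.1 U.2).T.n) : IsOpenImmersion (D.eMap p chart U i) :=
  @IsOpenImmersion.comp _ _ _ (Proj.awayι (D.degA U.1 U.2) _ ((D.gs U.1 U.2).τ_memA U.2 i) one_pos)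
    (RelProj.emb p chart U.1 U.2) inferInstance (RelProj.isOpenImmersion_emb (𝒮 := D.alg) p chart U.1 U.2)

theorem opensRange_eMap {P : Scheme.{u}} (p : P ⟶ S)
    (chart : ∀ (U : S.Opens) (hU : IsAffineOpen U), (((p ⁻¹ᵁ U : P.Opens) : Scheme.{u}) ≅ Proj (D.alg.deg U hU)))
    (U : S.affineOpens) (i : Fin (D.gs U.1 U.2).T.n) : (D.eMap p chart U i).opensRange =
      RelProj.emb p chart U.1 U.2 ''ᵁ Proj.basicOpen (D.degA U.1 U.2) ((D.gs U.1 U.2).τ i) :=
  (@Scheme.Hom.opensRange_comp _ _ _ (Proj.awayι (D.degA U.1 U.2) _ ((D.gs U.1 U.2).τ_memA U.2 i) one_pos)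
    (RelProj.emb p chart U.1 U.2) inferInstance
    (RelProj.isOpenImmersion_emb (𝒮 := D.alg) p chart U.1 U.2)).trans
    (congrArg (RelProj.emb p chart U.1 U.2 ''ᵁ ·) (Proj.opensRange_awayι (D.degA U.1 U.2) _ _ one_pos))

theorem comp_eq_eMap {P : Scheme.{u}} {p : P ⟶ S}
    {chart : ∀ (U : S.Opens) (hU : IsAffineOpen U), (((p ⁻¹ᵁ U : P.Opens) : Scheme.{u}) ≅ Proj (D.alg.deg U hU))}
    {j : X ⟶ P} (hj : ∀ U : S.affineOpens, (f ⁻¹ᵁ U.1).ι ≫ j = D.toProj p chart U)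
    (U : S.affineOpens) (i : Fin (D.gs U.1 U.2).T.n) :
    ((D.gs U.1 U.2).T.L i).ι ≫ j = Chow.PointMap.toSpecHom
      (HProj.Pt.awayHom (D.degA U.1 U.2) ((D.gs U.1 U.2).τ i) ((D.gs U.1 U.2).phiTop i)
        ((D.gs U.1 U.2).isUnit_phiTop i)) ≫ D.eMap p chart U i := by
  rw [← Scheme.homOfLE_ι _ ((D.gs U.1 U.2).T.L_le i), Category.assoc, hj U, toProj, ← Category.assoc,
    D.homOfLE_chart U.2 i]
  exact Category.assoc _ _ _

include D in
set_option maxHeartbeats 800000 in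
/-- The coordinate data embed `X` as a schematically dense open of a projective scheme over `S`. -/
theorem exists_compactification :
    ∃ (P : Scheme.{u}) (p : P ⟶ S) (j : X ⟶ P), RelProj.IsProjective p ∧ IsOpenImmersion j ∧
      QuasiCompact j ∧ IsSchemeTheoreticallyDominant j ∧ j ≫ p = f := by
  classical
  let P := (H81.RelProj.Exists.glueData D.alg).glued
  let p := (H81.RelProj.Exists.glueData D.alg).toBase
  let chart := H81.RelProj.Exists.chart D.alg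
  have hP : RelProj.IsRelProj D.alg p chart := H81.RelProj.Exists.isRelProj D.alg
  obtain ⟨j, hjp, hopen, hj⟩ := D.exists_toProj hP
  have hproj : RelProj.IsProjective p :=
    ⟨D.alg, P, p, chart, Iso.refl P, D.isGenDegOne, D.isFTDeg_one, hP, Category.id_comp p⟩
  let κ := Σ U : S.affineOpens, Fin (D.gs U.1 U.2).T.n
  let e := fun k : κ => D.eMap p chart k.1 k.2
  let V : κ → P.affineOpens := fun k => ⟨(e k).opensRange, isAffineOpen_opensRange (e k)⟩
  have hVeq : ∀ k : κ, (V k).1 =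
      RelProj.emb p chart k.1.1 k.1.2 ''ᵁ Proj.basicOpen (D.degA k.1.1 k.1.2) ((D.gs k.1.1 k.1.2).τ k.2) :=
    fun k => D.opensRange_eMap p chart k.1 k.2
  have hVcov : ⨆ k, (V k).1 = ⊤ := by
    refine top_le_iff.1 fun z _ => ?_
    obtain ⟨U, hU, hzU, -⟩ := exists_isAffineOpen_mem_and_subset (X := S) (x := p z) (U := ⊤) trivial
    obtain ⟨y, hy⟩ : z ∈ (RelProj.emb p chart U hU).opensRange := by
      rw [H81.RelProj.RelTilde.opensRange_emb]; exact hzU
    obtain ⟨i, hi⟩ := (D.gs U hU).iSup_basicOpen_τ hU y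
    refine Opens.mem_iSup.2 ⟨⟨⟨U, hU⟩, i⟩, ?_⟩
    rw [hVeq]
    exact ⟨y, hi, hy⟩
  have hpre : ∀ k : κ, j ⁻¹ᵁ (V k).1 = (D.gs k.1.1 k.1.2).T.L k.2 := fun k => by
    obtain ⟨⟨U, hU⟩, i⟩ := k
    have hin : ∀ y : ((f ⁻¹ᵁ U : X.Opens) : Scheme.{u}), j ((f ⁻¹ᵁ U).ι y) =
        RelProj.emb p chart U hU (D.chart U hU y) := fun y => by
      rw [← Scheme.Hom.comp_apply, hj ⟨U, hU⟩]
      rfl
    ext x
    rw [SetLike.mem_coe, SetLike.mem_coe, Scheme.Hom.mem_preimage, hVeq]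
    constructor
    · rintro ⟨y, hy, hxy⟩
      have hxU : x ∈ f ⁻¹ᵁ U := by
        show f x ∈ U
        rw [← hjp, Scheme.Hom.comp_apply, ← hxy]
        exact (H81.RelProj.RelTilde.opensRange_emb p chart U hU).le ⟨y, rfl⟩
      have : D.chart U hU ⟨x, hxU⟩ = y := (RelProj.emb p chart U hU).isOpenEmbedding.injective
        ((hin ⟨x, hxU⟩).symm.trans hxy.symm)
      exact (D.chart_mem_iff hU i ⟨x, hxU⟩).1 (this ▸ hy)
    · intro hx
      exact ⟨D.chart U hU ⟨x, (D.gs U hU).T.L_le i hx⟩, (D.chart_mem_iff hU i _).2 hx, (hin _).symm⟩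
  haveI : IsOpenImmersion j := hopen
  haveI hqc : QuasiCompact j := by
    refine (IsZariskiLocalAtTarget.iff_of_iSup_eq_top (P := @QuasiCompact) (fun k => (V k).1) hVcov).2 fun k => ?_
    haveI : IsAffine ((V k).1 : Scheme.{u}) := (V k).2
    haveI : CompactSpace ((j ⁻¹ᵁ (V k).1 : X.Opens) : Scheme.{u}) := by
      refine isCompact_iff_compactSpace.1 ?_
      rw [hpre k]
      exact D.isCompact_L _ _
    exact quasiCompact_of_compactSpace _
  refine ⟨P, p, j, hproj, hopen, hqc, ⟨Scheme.IdealSheafData.ext_of_iSup_eq_top V hVcov fun k => ?_⟩, hjp⟩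
  rw [Scheme.Hom.ker_apply, Scheme.IdealSheafData.ideal_bot]
  obtain ⟨⟨U, hU⟩, i⟩ := k
  let G := D.gs U hU
  refine (RingHom.injective_iff_ker_eq_bot _).1 ?_
  have hL : (⊤ : (G.T.L i : Scheme.{u}).Opens) ≤ ((G.T.L i).ι ≫ j) ⁻¹ᵁ (V ⟨⟨U, hU⟩, i⟩).1 := fun y _ =>
    (hpre ⟨⟨U, hU⟩, i⟩).ge y.2
  have hm := D.comp_eq_eMap hj ⟨U, hU⟩ i
  intro s t hst
  have hinj := appLE_injective_of_toSpecHom _ (G.awayHom_phiTop_injective hU i) (e ⟨⟨U, hU⟩, i⟩)
    (V ⟨⟨U, hU⟩, i⟩).1 rfl (hm ▸ hL)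
  refine hinj ?_
  have h' : ((G.T.L i).ι ≫ j).appLE (V ⟨⟨U, hU⟩, i⟩).1 ⊤ hL s =
      ((G.T.L i).ι ≫ j).appLE (V ⟨⟨U, hU⟩, i⟩).1 ⊤ hL t := by
    rw [← Scheme.Hom.appLE_comp_appLE _ _ _ (j ⁻¹ᵁ (V ⟨⟨U, hU⟩, i⟩).1) ⊤ le_rfl hL, CommRingCat.comp_apply,
      CommRingCat.comp_apply]
    congr 1
    simpa [Scheme.Hom.appLE] using hst
  have congr' : ∀ {T : Scheme.{u}} {g g' : T ⟶ P} (_ : g = g') (W : P.Opens) (hg : (⊤ : T.Opens) ≤ g ⁻¹ᵁ W)
      (hg' : (⊤ : T.Opens) ≤ g' ⁻¹ᵁ W), g.appLE W ⊤ hg = g'.appLE W ⊤ hg' := by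
    intro T g g' h W hg hg'; subst h; rfl
  rw [← congr' hm _ hL (hm ▸ hL)]
  exact h'

end PData

end Groth.Agent.H22.QProj
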