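import Groth.Agent.Lib.PProj.Amb
import Mathlib.RingTheory.MvPolynomial.Ideal

/-
Adapted from `Groth/Agent/Lib/PProj/Sys.lean`: only some of the coordinates are required to have affine loci on which
the ratios generate ("good" coordinates), as happens for morphisms that are quasi-projective but not proper.
-/

set_option autoImplicit false
set_option maxHeartbeats 1000000

noncomputable section

universe u

open CategoryTheory AlgebraicGeometry TopologicalSpace MvPolynomial Opposite

namespace Groth.Agent.H22.QProj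

open Groth.Agent.Lib Groth.Agent.Lib.PProj

variable {X S : Scheme.{u}} (f : X ⟶ S) {I : Type u} (P : I → X.Opens)

/-- A coordinate system over `U`. -/
structure Sys (U : S.Opens) where
  /-- the number of coordinates -/
  n : ℕ
  /-- the coordinates -/
  c : Fin n → Vec f P U
  /-- the loci -/
  L : Fin n → X.Opens
  L_le : ∀ j, L j ≤ f ⁻¹ᵁ U
  /-- the good coordinates -/
  good : Fin n → Prop
  affine : ∀ j, good j → IsAffineOpen (L j)
  cover_good : ∀ x ∈ f ⁻¹ᵁ U, ∃ j, good j ∧ x ∈ L j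
  L_inf : ∀ j a, L j ⊓ P a = X.basicOpen (c j a)
  /-- the ratios -/
  u : ∀ j, Fin n → Γ(X, L j)
  rel : ∀ j k a, rX (le_inf inf_le_right (inf_le_left.trans (L_le j))) (c k a) =
    rX (inf_le_left : L j ⊓ P a ≤ L j) (u j k) * rX (le_inf inf_le_right (inf_le_left.trans (L_le j))) (c j a)
  gen : ∀ j, good j → Subring.closure (Set.range (f.appLE U (L j) (L_le j)) ∪ Set.range (u j)) = ⊤

variable {f P} {U : S.Opens}

namespace Sys

variable (T : Sys f P U)

theorem cover : f ⁻¹ᵁ U ≤ ⨆ j, T.L j := fun x hx => by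
  obtain ⟨j, -, hj⟩ := T.cover_good x hx
  exact Opens.mem_iSup.2 ⟨j, hj⟩

theorem cover_le_good (a : I) : piece f P a U ≤ ⨆ j : {j : Fin T.n // T.good j}, T.L j.1 ⊓ P a := fun x hx => by
  obtain ⟨j, hj, hxj⟩ := T.cover_good x hx.2
  exact Opens.mem_iSup.2 ⟨⟨j, hj⟩, hxj, hx.1⟩

theorem le_piece (j : Fin T.n) (a : I) : T.L j ⊓ P a ≤ piece f P a U :=
  le_inf inf_le_right (inf_le_left.trans (T.L_le j))

theorem rel' (j k : Fin T.n) (a : I) : rX (T.le_piece j a) (T.c k a) =
    rX (inf_le_left : T.L j ⊓ P a ≤ T.L j) (T.u j k) * rX (T.le_piece j a) (T.c j a) := T.rel j k a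

theorem isUnit_c (j : Fin T.n) (a : I) : IsUnit (rX (T.le_piece j a) (T.c j a)) :=
  isUnit_rX _ (T.L_inf j a).le

theorem piece_le (a : I) : piece f P a U ≤ ⨆ j, T.L j ⊓ P a := fun x hx => by
  obtain ⟨j, hj⟩ := Opens.mem_iSup.1 (T.cover hx.2)
  exact Opens.mem_iSup.2 ⟨j, hj, hx.1⟩

/-- The functions of the base on a locus. -/
def baseL (j : Fin T.n) : Γ(S, U) →+* Γ(X, T.L j) := (f.appLE U (T.L j) (T.L_le j)).hom

theorem rX_baseL (j : Fin T.n) (a : I) (r : Γ(S, U)) :
    rX (inf_le_left : T.L j ⊓ P a ≤ T.L j) (T.baseL j r) = rX (T.le_piece j a) (base f P a U r) := by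
  simp only [rX, baseL, base]
  rw [← CommRingCat.comp_apply, ← CommRingCat.comp_apply, Scheme.Hom.appLE_map, Scheme.Hom.appLE_map]

/-- Evaluation at the ratios. -/
def evalL (j : Fin T.n) : MvPolynomial (Fin T.n) Γ(S, U) →+* Γ(X, T.L j) :=
  eval₂Hom (T.baseL j) (T.u j)

/-- The coordinates of a homogeneous evaluation. -/
theorem evalAt_eq (j : Fin T.n) (a : I) {q : MvPolynomial (Fin T.n) Γ(S, U)} {d : ℕ} (hq : q.IsHomogeneous d) :
    rX (T.le_piece j a) (evalAt U T.c a q) =
      rX (T.le_piece j a) (T.c j a) ^ d * rX (inf_le_left : T.L j ⊓ P a ≤ T.L j) (T.evalL j q) := by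
  let g : Γ(S, U) →+* Γ(X, T.L j ⊓ P a) := (rX (T.le_piece j a)).comp (base f P a U)
  have h1 : (rX (T.le_piece j a)).comp (evalAt U T.c a) =
      eval₂Hom g fun k => rX (T.le_piece j a) (T.c j a) * rX (inf_le_left : T.L j ⊓ P a ≤ T.L j) (T.u j k) := by
    apply MvPolynomial.ringHom_ext
    · intro r; simp [evalAt, g]
    · intro k; simp [evalAt, T.rel' j k a, mul_comm]
  have h2 : (rX (inf_le_left : T.L j ⊓ P a ≤ T.L j)).comp (T.evalL j) =
      eval₂Hom g fun k => rX (inf_le_left : T.L j ⊓ P a ≤ T.L j) (T.u j k) := by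
    apply MvPolynomial.ringHom_ext
    · intro r; simp [evalL, g, T.rX_baseL j a r]
    · intro k; simp [evalL]
  refine (DFunLike.congr_fun h1 q).trans ?_
  rw [ProjSpace.Charts.eval₂Hom_mul_of_isHomogeneous _ _ _ hq]
  exact congrArg (_ * ·) (DFunLike.congr_fun h2 q).symm

theorem L_basicOpen (j : Fin T.n) (r : Γ(S, U)) : T.L j ⊓ f ⁻¹ᵁ S.basicOpen r = X.basicOpen (T.baseL j r) := by
  rw [baseL]
  change _ = X.basicOpen (f.appLE U (T.L j) (T.L_le j) r)
  rw [Scheme.basicOpen_appLE]

/-- A polynomial evaluation that vanishes on `D(r)` is killed by a power of `r`. -/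
theorem exists_pow_kill (hP : ∀ x, ∃ a, x ∈ P a) (r : Γ(S, U)) (p : MvPolynomial (Fin T.n) Γ(S, U))
    (h : ares (S.basicOpen_le r) (ev U T.c p) = 0) : ∃ m : ℕ, strA U r ^ m * ev U T.c p = 0 := by
  classical
  have key : ∀ q : {j : Fin T.n // T.good j} × Fin (p.totalDegree + 1), ∃ m : ℕ,
      T.baseL q.1.1 r ^ m * T.evalL q.1.1 (homogeneousComponent (q.2 : ℕ) p) = 0 := by
    rintro ⟨⟨j, hj⟩, ⟨d, hd⟩⟩
    let B := X.basicOpen (T.baseL j r)
    let := (rX (X.basicOpen_le (T.baseL j r))).toAlgebra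
    haveI : IsLocalization.Away (T.baseL j r) Γ(X, B) := (T.affine j hj).isLocalization_basicOpen _
    have hzero : rX (X.basicOpen_le (T.baseL j r)) (T.evalL j (homogeneousComponent d p)) = 0 := by
      refine eq_of_cover (B := fun a => B ⊓ P a) (fun a => inf_le_left) (fun x hx => ?_) fun a => ?_
      · obtain ⟨a, ha⟩ := hP x
        exact Opens.mem_iSup.2 ⟨a, hx, ha⟩
      · have hle : B ⊓ P a ≤ T.L j ⊓ P a := inf_le_inf_right _ (X.basicOpen_le _)
        have hle' : B ⊓ P a ≤ piece f P a (S.basicOpen r) :=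
          le_inf inf_le_right (inf_le_left.trans ((T.L_basicOpen j r).ge.trans inf_le_right))
        have e := congrArg (fun s => rX hle' (PowerSeries.coeff d (s a))) h
        simp only [coeff_ares, coeff_ev, Pi.zero_apply, map_zero, rX_rX] at e
        have e2 := congrArg (rX hle) (T.evalAt_eq j a (homogeneousComponent_isHomogeneous d p))
        rw [rX_rX, e, map_mul, map_pow, rX_rX, rX_rX] at e2
        have hu : IsUnit (rX (hle.trans (T.le_piece j a)) (T.c j a)) := by
          rw [← rX_rX (T.le_piece j a) hle]; exact (T.isUnit_c j a).map _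
        rw [map_zero, rX_rX]
        exact (hu.pow d).mul_right_eq_zero.1 e2.symm
    obtain ⟨⟨_, m, rfl⟩, hm⟩ := (IsLocalization.map_eq_zero_iff (Submonoid.powers (T.baseL j r)) Γ(X, B) _).1 hzero
    exact ⟨m, hm⟩
  choose m hm using key
  refine ⟨Finset.univ.sup m, amb_ext fun a d => ?_⟩
  rw [← map_pow, coeff_strA_mul, map_pow, Pi.zero_apply, map_zero, coeff_ev]
  by_cases hd : d < p.totalDegree + 1
  · refine eq_of_cover (B := fun j : {j : Fin T.n // T.good j} => T.L j.1 ⊓ P a) (fun j => T.le_piece j.1 a)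
      (T.cover_le_good a) fun j => ?_
    obtain ⟨e, he⟩ := Nat.exists_eq_add_of_le (Finset.le_sup (f := m) (Finset.mem_univ ((j, ⟨d, hd⟩) :
      {j : Fin T.n // T.good j} × Fin (p.totalDegree + 1))))
    rw [map_mul, map_pow, T.evalAt_eq j.1 a (homogeneousComponent_isHomogeneous d p), map_zero, ← T.rX_baseL, he]
    have h0 := congrArg (rX (inf_le_left : T.L j.1 ⊓ P a ≤ T.L j.1)) (hm (j, ⟨d, hd⟩))
    rw [map_mul, map_pow, map_zero] at h0
    rw [pow_add]
    linear_combination (rX (inf_le_left : T.L j.1 ⊓ P a ≤ T.L j.1) (T.baseL j.1 r) ^ e *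
      rX (T.le_piece j.1 a) (T.c j.1 a) ^ d) * h0
  · rw [homogeneousComponent_eq_zero d p (by omega), map_zero, mul_zero]

/-- The system over a basic open. -/
def basic (T : Sys f P U) (hU : IsAffineOpen U) (g : Γ(S, U)) : Sys f P (S.basicOpen g) where
  n := T.n
  c j := vres (S.basicOpen_le g) (T.c j)
  L j := T.L j ⊓ f ⁻¹ᵁ S.basicOpen g
  L_le _ := inf_le_right
  good := T.good
  affine j hj := by rw [T.L_basicOpen]; exact (T.affine j hj).basicOpen _
  cover_good x hx := by
    obtain ⟨j, hg, hj⟩ := T.cover_good x (f.preimage_mono (S.basicOpen_le g) hx)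
    exact ⟨j, hg, hj, hx⟩
  L_inf j a := by
    rw [vres_apply, basicOpen_rX, ← T.L_inf]
    ext x
    simp only [piece, Opens.coe_inf, Set.mem_inter_iff]
    tauto
  u j k := rX inf_le_left (T.u j k)
  rel j k a := by
    have h := congrArg (rX (inf_le_inf_right (P a) (inf_le_left : T.L j ⊓ f ⁻¹ᵁ S.basicOpen g ≤ T.L j)))
      (T.rel' j k a)
    simp only [map_mul, rX_rX] at h
    simp only [vres_apply, rX_rX]
    exact h
  gen j hj := by
    rw [eq_top_iff]
    intro z _
    set R0 := Subring.closure (Set.range (f.appLE (S.basicOpen g) (T.L j ⊓ f ⁻¹ᵁ S.basicOpen g) inf_le_right) ∪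
      Set.range fun k => rX (inf_le_left : T.L j ⊓ f ⁻¹ᵁ S.basicOpen g ≤ T.L j) (T.u j k)) with hR0
    let B := T.L j ⊓ f ⁻¹ᵁ S.basicOpen g
    have hB : B ≤ T.L j := inf_le_left
    have hbase : ∀ r : Γ(S, U), rX hB (T.baseL j r) ∈ R0 := fun r => by
      refine Subring.subset_closure (Or.inl ⟨rX (S.basicOpen_le g) r, ?_⟩)
      simp only [rX, baseL]
      rw [← CommRingCat.comp_apply, ← CommRingCat.comp_apply, Scheme.Hom.map_appLE, Scheme.Hom.appLE_map]
    have himg : ∀ w : Γ(X, T.L j), rX hB w ∈ R0 := fun w => by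
      have hw : w ∈ Subring.closure (Set.range (f.appLE U (T.L j) (T.L_le j)) ∪ Set.range (T.u j)) :=
        (T.gen j hj).ge (Subring.mem_top w)
      refine (Subring.closure_le (t := R0.comap (rX hB))).2 ?_ hw
      rintro _ (⟨r, rfl⟩ | ⟨k, rfl⟩)
      · exact hbase r
      · exact Subring.subset_closure (Or.inr ⟨k, rfl⟩)
    let := (rX hB).toAlgebra
    haveI : IsLocalization.Away (T.baseL j g) Γ(X, B) :=
      (T.affine j hj).isLocalization_of_eq_basicOpen _ (homOfLE hB) (T.L_basicOpen j g)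
    obtain ⟨m, w, hw⟩ := IsLocalization.Away.surj (T.baseL j g) z
    obtain ⟨v, hv⟩ := (RingedSpace.isUnit_res_basicOpen S.toRingedSpace g).exists_right_inv
    have hinv : rX hB (T.baseL j g) * f.appLE (S.basicOpen g) B inf_le_right v = 1 := by
      have hg : rX hB (T.baseL j g) = f.appLE (S.basicOpen g) B inf_le_right (rX (S.basicOpen_le g) g) := by
        simp only [rX, baseL]
        rw [← CommRingCat.comp_apply, ← CommRingCat.comp_apply, Scheme.Hom.map_appLE, Scheme.Hom.appLE_map]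
      rw [hg, ← map_mul]
      exact (congrArg _ hv).trans (map_one _)
    have hmem : rX hB w * f.appLE (S.basicOpen g) B inf_le_right v ^ m ∈ R0 :=
      mul_mem (himg w) (pow_mem (show _ ∈ R0 from Subring.subset_closure (Or.inl ⟨v, rfl⟩)) m)
    change z * rX hB (T.baseL j g) ^ m = rX hB w at hw
    rwa [← hw, mul_assoc, ← mul_pow, hinv, one_pow, mul_one] at hmem

end Sys

variable (f)

/-- Coordinate data over the base: compatible systems over an affine cover. -/
structure PData where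
  /-- the index of the pieces -/
  I : Type u
  /-- the pieces -/
  P : I → X.Opens
  P_cover : ∀ x, ∃ a, x ∈ P a
  /-- the index of the cover of the base -/
  J : Type u
  /-- the cover of the base -/
  U : J → S.Opens
  affine : ∀ β, IsAffineOpen (U β)
  cover : ∀ x, ∃ β, x ∈ U β
  /-- the systems -/
  sys : ∀ β, Sys f P (U β)
  compat : ∀ (β γ : J) (j : Fin (sys γ).n) (y : S), y ∈ U β → y ∈ U γ →
    ∃ (V : S.Opens) (hβ : V ≤ U β) (hγ : V ≤ U γ), y ∈ V ∧ ∃ l : Fin (sys β).n → Γ(S, V),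
      vres hγ ((sys γ).c j) = lin l fun k => vres hβ ((sys β).c k)

end Groth.Agent.H22.QProj
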